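import Cfsg.Agent.H40.WeakClosure.Main

/-!
The involutions of a weakly closed central subgroup give the data of the criterion.
-/

set_option autoImplicit false

open Cfsg
open scoped Pointwise

namespace Cfsg.Agent.H40.WeakClosure

open Subgroup

variable {G : Type*} [Group G] [Finite G]

/-- The elements of square one of an abelian subgroup. -/
def sqOneSubgroup (W : Subgroup G) (hW : ∀ a ∈ W, ∀ b ∈ W, Commute a b) : Subgroup G where
  carrier := {w | w ∈ W ∧ w * w = 1}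
  one_mem' := ⟨one_mem W, one_mul 1⟩
  mul_mem' := by
    rintro a b ⟨ha, ha2⟩ ⟨hb, hb2⟩
    refine ⟨mul_mem ha hb, ?_⟩
    rw [(hW b hb a ha).mul_mul_mul_comm, ha2, hb2, one_mul]
  inv_mem' := by
    rintro a ⟨ha, ha2⟩
    exact ⟨inv_mem ha, by rw [← mul_inv_rev, ha2, inv_one]⟩

theorem exists_sylow_conj {W : Subgroup G} (T : Sylow 2 G) (hwc : IsWeaklyClosed W (T : Subgroup G))
    {P : Subgroup G} (hP : IsPGroup 2 P) (hWP : W ≤ P) :
    ∃ d ∈ normalizer (W : Set G), ∀ x ∈ P, d * x * d⁻¹ ∈ T := by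
  obtain ⟨Q, hQ⟩ := hP.exists_le_sylow
  haveI : Fact (Nat.Prime 2) := ⟨Nat.prime_two⟩
  obtain ⟨d, hd⟩ := MulAction.exists_smul_eq G Q T
  have hmem : ∀ x ∈ P, d * x * d⁻¹ ∈ T := fun x hx => by
    rw [← hd, mem_conj_iff, show d⁻¹ * (d * x * d⁻¹) * d = x by group]
    exact hQ hx
  refine ⟨d, ?_, hmem⟩
  rw [mem_normalizer_iff_map_conj_eq]
  exact hwc.2 d (by rintro _ ⟨x, hx, rfl⟩; exact hmem x (hWP hx))

theorem data_of_cosets (T : Sylow 2 G) (W : Subgroup G)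
    (hWT : W ≤ (T : Subgroup G)) (hWc : ∀ s ∈ T, ∀ w ∈ W, Commute s w)
    (hwc : IsWeaklyClosed W (T : Subgroup G)) {t : G} (ht : orderOf t = 2) (htT : t ∈ T)
    (htW : t ∉ W)
    (hcos : ∀ w ∈ W, orderOf (w * t) = 2 →
      W.subgroupOf (centralizer ({w * t} : Set G)) ≤
        pPrimePCore 2 ↥(centralizer ({w * t} : Set G))) :
    Data T (sqOneSubgroup W fun a ha b hb => hWc a (hWT ha) b hb) t := by
  haveI : Fact (Nat.Prime 2) := ⟨Nat.prime_two⟩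
  set V := sqOneSubgroup W fun a ha b hb => hWc a (hWT ha) b hb with hV
  have hVW : ∀ w ∈ V, w ∈ W := fun w hw => hw.1
  have hNW : ∀ d ∈ normalizer (W : Set G), ∀ w ∈ V, d * w * d⁻¹ ∈ V := fun d hd w hw =>
    ⟨(mem_normalizer_iff.mp hd w).mp (hVW w hw), by
      rw [show d * w * d⁻¹ * (d * w * d⁻¹) = d * (w * w) * d⁻¹ by group, hw.2]; group⟩
  have hclosed : ∀ g : G, (∀ w ∈ V, g * w * g⁻¹ ∈ T) → ∀ w ∈ V, g * w * g⁻¹ ∈ V := by
    intro g hg w hw
    set C := centralizer ((fun v => g * v * g⁻¹) '' (V : Set G)) with hC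
    have hWC : W ≤ C := fun u hu => mem_centralizer_iff.mpr fun _ ⟨v, hv, e⟩ =>
      e ▸ (hWc _ (hg v hv) u hu).eq
    have hgC : W.map (MulAut.conj g).toMonoidHom ≤ C := by
      rintro _ ⟨u, hu, rfl⟩
      refine mem_centralizer_iff.mpr fun _ ⟨v, hv, e⟩ => e ▸ ?_
      show g * v * g⁻¹ * (g * u * g⁻¹) = g * u * g⁻¹ * (g * v * g⁻¹)
      calc g * v * g⁻¹ * (g * u * g⁻¹) = g * (v * u) * g⁻¹ := by group
        _ = g * (u * v) * g⁻¹ := by rw [(hWc v (hWT (hVW v hv)) u hu).eq]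
        _ = _ := by group
    have hWp : IsPGroup 2 W := T.isPGroup'.to_le hWT
    obtain ⟨R, hR⟩ := (hWp.of_equiv (subgroupOfEquivOfLe hWC).symm).exists_le_sylow
    obtain ⟨R', hR'⟩ := ((hWp.map _).of_equiv (subgroupOfEquivOfLe hgC).symm).exists_le_sylow
    obtain ⟨c, hc⟩ := MulAction.exists_smul_eq C R' R
    obtain ⟨d, hd, hdP⟩ := exists_sylow_conj T hwc ((R.isPGroup').map C.subtype)
      fun u hu => ⟨⟨u, hWC hu⟩, hR (mem_subgroupOf.mpr hu), rfl⟩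
    have h2 : d * ((c : G) * g) ∈ normalizer (W : Set G) := by
      rw [mem_normalizer_iff_map_conj_eq]
      refine hwc.2 _ ?_
      rintro _ ⟨u, hu, rfl⟩
      have h3 : c * ⟨g * u * g⁻¹, hgC ⟨u, hu, rfl⟩⟩ * c⁻¹ ∈ (R : Subgroup C) := by
        rw [← hc, Sylow.coe_subgroup_smul, ← MulAut.conj_apply, ← MulAut.smul_def]
        exact smul_mem_pointwise_smul _ _ _ (hR' (mem_subgroupOf.mpr ⟨u, hu, rfl⟩))
      have h4 := hdP _ ⟨_, h3, rfl⟩
      simp only [Subgroup.coe_subtype, Subgroup.coe_mul, InvMemClass.coe_inv] at h4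
      show d * ((c : G) * g) * u * (d * ((c : G) * g))⁻¹ ∈ (T : Subgroup G)
      rw [show d * ((c : G) * g) * u * (d * ((c : G) * g))⁻¹ =
        d * ((c : G) * (g * u * g⁻¹) * (c : G)⁻¹) * d⁻¹ by group]
      exact h4
    have hcg : (c : G) * g ∈ normalizer (W : Set G) := by
      rw [show (c : G) * g = d⁻¹ * (d * ((c : G) * g)) by group]
      exact mul_mem (inv_mem hd) h2
    have h5 := hNW _ hcg w hw
    have hcc : g * w * g⁻¹ * (c : G) = (c : G) * (g * w * g⁻¹) :=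
      mem_centralizer_iff.mp c.2 _ ⟨w, hw, rfl⟩
    rwa [show (c : G) * g * w * ((c : G) * g)⁻¹ = (c : G) * (g * w * g⁻¹) * (c : G)⁻¹ by group,
      ← hcc, mul_inv_cancel_right] at h5
  refine ⟨fun w hw => hWT (hVW w hw), fun s hs w hw => hWc s hs w (hVW w hw), fun w hw => hw.2,
    hclosed, htT, Involution.mul_self_of_orderOf ht, fun h => htW (hVW t h), ?_⟩
  intro w hw a ha u hu
  have hwt : orderOf (w * t) = 2 := Involution.orderOf_eq_two_iff'.mpr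
    ⟨by rw [(hWc t htT w (hVW w hw)).mul_mul_mul_comm, hw.2,
        Involution.mul_self_of_orderOf ht, one_mul],
      fun he => htW (by rw [eq_inv_of_mul_eq_one_right he]; exact inv_mem (hVW w hw))⟩
  have hL0 := hcos w (hVW w hw) hwt
  set C := centralizer ({w * t} : Set G) with hC
  have hWC : W ≤ C := fun v hv => mem_centralizer_singleton_iff.mpr
    (hWc _ (mul_mem (hWT (hVW w hw)) htT) v hv).eq.symm
  set N := pPrimeCore 2 C with hN
  set L := pPrimePCore 2 C with hL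
  obtain ⟨R, hR⟩ := ((T.isPGroup'.to_le hWT).of_equiv (subgroupOfEquivOfLe hWC).symm).exists_le_sylow
  have hfs : Function.Surjective (QuotientGroup.mk' N) := QuotientGroup.mk'_surjective N
  haveI : L.Normal := (Thompson.instPCoreNormal (p := 2) (G := C ⧸ N)).comap _
  have hdec : ∀ l ∈ L, ∃ r ∈ (R : Subgroup C), r ∈ L ∧ r⁻¹ * l ∈ N := by
    intro l hl
    obtain ⟨r, hr, he⟩ := Thompson.pCore_le_sylow (R.mapSurjective hfs) (mem_comap.mp hl)
    refine ⟨r, hr, ?_, QuotientGroup.eq.mp he⟩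
    rw [hL, pPrimePCore, mem_comap, he]
    exact hl
  set P := ((R : Subgroup C) ⊓ L).map C.subtype with hP
  have hWP : W ≤ P := fun v hv =>
    ⟨⟨v, hWC hv⟩, ⟨hR (mem_subgroupOf.mpr hv), hL0 (mem_subgroupOf.mpr hv)⟩, rfl⟩
  obtain ⟨d, hd, hdP⟩ := exists_sylow_conj T hwc
    ((R.isPGroup'.to_le inf_le_left).map C.subtype : IsPGroup 2 P) hWP
  have haC : a ∈ C := mem_centralizer_singleton_iff.mpr ha.eq
  -- the conjugate of `V` in the two-step core, moved into `R ⊓ L`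
  set A := (((V.subgroupOf C).map (MulAut.conj (⟨a, haC⟩ : C)).toMonoidHom)).subgroupOf L with hA
  have hVp : IsPGroup 2 V := T.isPGroup'.to_le fun v hv => hWT (hVW v hv)
  have hAp : IsPGroup 2 A :=
    (((hVp.of_equiv (subgroupOfEquivOfLe fun v hv => hWC (hVW v hv)).symm).map _).comap_of_injective
      L.subtype (subtype_injective L))
  have hSp : IsPGroup 2 (((R : Subgroup C) ⊓ L).subgroupOf L) :=
    (R.isPGroup'.to_le inf_le_left).comap_of_injective L.subtype (subtype_injective L)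
  obtain ⟨Q₁, hQ₁⟩ := hAp.exists_le_sylow
  obtain ⟨Q₂, hQ₂⟩ := hSp.exists_le_sylow
  obtain ⟨l, hl⟩ := MulAction.exists_smul_eq L Q₁ Q₂
  have hQ₂L : ∀ x : L, x ∈ (Q₂ : Subgroup L) → ∀ r : C, r ∈ (R : Subgroup C) → r ∈ L →
      r⁻¹ * (x : C) ∈ N → (x : C) = r := by
    intro x hx r hr hrL hrN
    have h1 : ((⟨r, hrL⟩ : L)⁻¹ * x) ∈ (Q₂ : Subgroup L) :=
      mul_mem (inv_mem (hQ₂ (mem_subgroupOf.mpr ⟨hr, hrL⟩))) hx
    obtain ⟨k, hk⟩ := IsPGroup.iff_orderOf.mp Q₂.isPGroup' ⟨_, h1⟩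
    rw [Subgroup.orderOf_mk] at hk
    have h2 : orderOf (r⁻¹ * (x : C)) = 2 ^ k :=
      (orderOf_injective L.subtype (subtype_injective L) ((⟨r, hrL⟩ : L)⁻¹ * x)).trans hk
    have h3 : orderOf (r⁻¹ * (x : C)) = 1 :=
      Nat.eq_one_of_dvd_coprimes (Thompson.card_pPrimeCore_coprime.pow_right k)
        (Subgroup.orderOf_dvd_natCard _ hrN) h2.dvd
    exact (inv_mul_eq_one.mp (orderOf_eq_one_iff.mp h3)).symm
  obtain ⟨r, hr, hrL, hrN⟩ := hdec l l.2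
  set o : C := r⁻¹ * (l : C) with ho
  have hmem : ∀ v ∈ V, d * ((o : G) * (a * v * a⁻¹) * (o : G)⁻¹) * d⁻¹ ∈ T := by
    intro v hv
    have hvC : v ∈ C := hWC (hVW v hv)
    set x : C := ⟨a, haC⟩ * ⟨v, hvC⟩ * ⟨a, haC⟩⁻¹ with hx
    have hxL : x ∈ L := Normal.conj_mem inferInstance _ (hL0 (mem_subgroupOf.mpr (hVW v hv))) _
    have h1 : l * ⟨x, hxL⟩ * l⁻¹ ∈ (Q₂ : Subgroup L) := by
      rw [← hl, Sylow.coe_subgroup_smul, ← MulAut.conj_apply, ← MulAut.smul_def]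
      exact smul_mem_pointwise_smul _ _ _
        (hQ₁ (mem_subgroupOf.mpr ⟨⟨v, hvC⟩, mem_subgroupOf.mpr hv, rfl⟩))
    obtain ⟨s, hs, hsL, hsN⟩ := hdec _ (l * ⟨x, hxL⟩ * l⁻¹).2
    have h2 := hQ₂L _ h1 s hs hsL hsN
    have h3 : o * x * o⁻¹ ∈ (R : Subgroup C) ⊓ L := by
      rw [show o * x * o⁻¹ = r⁻¹ * ((l * ⟨x, hxL⟩ * l⁻¹ : L) : C) * r by
        simp [ho, mul_assoc], h2]
      exact mem_inf.mpr
        ⟨mul_mem (mul_mem (inv_mem hr) hs) hr, mul_mem (mul_mem (inv_mem hrL) hsL) hrL⟩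
    exact hdP _ ⟨_, h3, rfl⟩
  have h4 := hclosed (d * ((o : G) * a)) (fun v hv => by
    rw [show d * ((o : G) * a) * v * (d * ((o : G) * a))⁻¹ =
      d * ((o : G) * (a * v * a⁻¹) * (o : G)⁻¹) * d⁻¹ by group]
    exact hmem v hv) u hu
  have hv : (o : G) * (a * u * a⁻¹) * (o : G)⁻¹ ∈ V := by
    have h5 := hNW d⁻¹ (inv_mem hd) _ h4
    rwa [show d⁻¹ * (d * ((o : G) * a) * u * (d * ((o : G) * a))⁻¹) * d⁻¹⁻¹ =
      (o : G) * (a * u * a⁻¹) * (o : G)⁻¹ by group] at h5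
  refine ⟨N.map C.subtype, ?_, map_subtype_le _, fun x hx => ?_, _, hv, ?_⟩
  · rw [card_map_of_injective (subtype_injective C)]
    exact Nat.coprime_two_right.mp Thompson.card_pPrimeCore_coprime
  · exact le_normalizer_map C.subtype ⟨⟨x, hx⟩, by rw [normalizer_eq_top]; exact mem_top _, rfl⟩
  · set x : C := ⟨a, haC⟩ * ⟨u, hWC (hVW u hu)⟩ * ⟨a, haC⟩⁻¹ with hx
    refine ⟨o * (x⁻¹ * o⁻¹ * x⁻¹⁻¹), mul_mem hrN (Normal.conj_mem inferInstance _ (inv_mem hrN) _), ?_⟩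
    simp only [hx, Subgroup.coe_subtype, Subgroup.coe_mul, InvMemClass.coe_inv]
    group

end Cfsg.Agent.H40.WeakClosure
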