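import Cfsg.Agent.Lib.Thompson.Cores
import Cfsg.Agent.Lib.Involution.Dihedral
import Cfsg.Prelude.Def_Transfer

/-!
Data of the weak closure non-simplicity criterion and its behaviour under conjugation, restriction
to subgroups and passage to quotients.
-/

set_option autoImplicit false

namespace Cfsg.Agent.H40.WeakClosure

open Subgroup
open scoped Pointwise

variable {G : Type*} [Group G]

/-- `W ≤ Z(T)` is an elementary abelian 2-group weakly closed in the Sylow 2-subgroup `T`, the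
involution `t` lies in `T \ W`, and modulo odd normal subgroups `W` is invariant in the centralizers
of the elements of `W t`. -/
structure Data (T : Sylow 2 G) (W : Subgroup G) (t : G) : Prop where
  le : W ≤ (T : Subgroup G)
  central : ∀ s ∈ T, ∀ w ∈ W, Commute s w
  elem : ∀ w ∈ W, w * w = 1
  closed : ∀ g : G, (∀ w ∈ W, g * w * g⁻¹ ∈ T) → ∀ w ∈ W, g * w * g⁻¹ ∈ W
  mem : t ∈ T
  sq : t * t = 1
  notMem : t ∉ W
  hyp : ∀ w ∈ W, ∀ a : G, Commute a (w * t) → ∀ u ∈ W, ∃ D : Subgroup G, Odd (Nat.card D) ∧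
    D ≤ centralizer ({w * t} : Set G) ∧
    centralizer ({w * t} : Set G) ≤ normalizer (D : Set G) ∧
    ∃ v ∈ W, v⁻¹ * (a * u * a⁻¹) ∈ D

theorem mem_conj_iff (g : G) (S : Sylow 2 G) (x : G) : x ∈ g • S ↔ g⁻¹ * x * g ∈ S := by
  change x ∈ ((g • S : Sylow 2 G) : Subgroup G) ↔ _
  rw [Sylow.coe_subgroup_smul, mem_pointwise_smul_iff_inv_smul_mem,
    ← map_inv, MulAut.smul_def, MulAut.conj_apply, inv_inv]
  rfl

namespace Data

variable {T : Sylow 2 G} {W : Subgroup G} {t : G} [Finite G]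

/-- If `g` carries `W` into `T` then it normalizes `W`. -/
theorem normalizes (h : Data T W t) {g : G} (hg : ∀ w ∈ W, g * w * g⁻¹ ∈ T) :
    g ∈ normalizer (W : Set G) := by
  have h1 := h.closed g hg
  have hle : W.map (MulAut.conj g).toMonoidHom ≤ W := by
    rintro _ ⟨w, hw, rfl⟩
    exact h1 w hw
  have heq : W.map (MulAut.conj g).toMonoidHom = W :=
    eq_of_le_of_card_ge hle (card_map_of_injective (MulAut.conj g).injective).ge
  rw [mem_normalizer_iff]
  intro w
  refine ⟨h1 w, fun hw => ?_⟩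
  have hmem : g * w * g⁻¹ ∈ W.map (MulAut.conj g).toMonoidHom := by rw [heq]; exact hw
  obtain ⟨v, hv, he⟩ := hmem
  exact mul_left_cancel (mul_right_cancel (he : g * v * g⁻¹ = g * w * g⁻¹)) ▸ hv

/-- A 2-subgroup containing `W` centralizes it. -/
theorem commute_of_isPGroup (h : Data T W t) {P : Subgroup G} (hP : IsPGroup 2 P) (hWP : W ≤ P)
    {p : G} (hp : p ∈ P) {w : G} (hw : w ∈ W) : Commute p w := by
  haveI : Fact (Nat.Prime 2) := ⟨Nat.prime_two⟩
  obtain ⟨Q, hQ⟩ := hP.exists_le_sylow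
  obtain ⟨c, hc⟩ := MulAction.exists_smul_eq G Q T
  have hmem : ∀ x ∈ P, c * x * c⁻¹ ∈ T := fun x hx => by
    rw [← hc, mem_conj_iff, show c⁻¹ * (c * x * c⁻¹) * c = x by group]
    exact hQ hx
  have hN := h.normalizes fun v hv => hmem v (hWP hv)
  have h1 := h.central _ (hmem p hp) _ ((mem_normalizer_iff.mp hN w).mp hw)
  show p * w = w * p
  calc p * w = c⁻¹ * (c * p * c⁻¹ * (c * w * c⁻¹)) * c := by group
    _ = c⁻¹ * (c * w * c⁻¹ * (c * p * c⁻¹)) * c := by rw [h1.eq]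
    _ = w * p := by group

theorem sq_mul (h : Data T W t) {w : G} (hw : w ∈ W) : w * t * (w * t) = 1 := by
  have h1 := (h.central t h.mem w hw).eq
  calc w * t * (w * t) = w * (t * w) * t := by group
    _ = w * w * (t * t) := by rw [h1]; group
    _ = 1 := by rw [h.elem w hw, h.sq, one_mul]

theorem orderOf_mul (h : Data T W t) {w : G} (hw : w ∈ W) : orderOf (w * t) = 2 :=
  Involution.orderOf_eq_two_iff'.mpr ⟨h.sq_mul hw, fun he => h.notMem (by
    rw [eq_inv_of_mul_eq_one_right he]; exact inv_mem hw)⟩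

theorem commute_mul (h : Data T W t) {w u : G} (hw : w ∈ W) (hu : u ∈ W) : Commute (w * t) u :=
  h.central _ (mul_mem (h.le hw) h.mem) u hu

/-- Two conjugates of `W` centralizing an element are conjugate in its centralizer. -/
theorem exists_conj_centralizer (h : Data T W t) {x g : G} (hx : ∀ w ∈ W, Commute x w)
    (hxg : ∀ w ∈ W, Commute x (g * w * g⁻¹)) :
    ∃ k : G, Commute k x ∧ k⁻¹ * g ∈ normalizer (W : Set G) := by
  haveI : Fact (Nat.Prime 2) := ⟨Nat.prime_two⟩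
  set C := centralizer ({x} : Set G) with hC
  have hWC : W ≤ C := fun w hw => mem_centralizer_singleton_iff.mpr (hx w hw).eq.symm
  have hgC : W.map (MulAut.conj g).toMonoidHom ≤ C := by
    rintro _ ⟨w, hw, rfl⟩
    exact mem_centralizer_singleton_iff.mpr (hxg w hw).eq.symm
  have hWp : IsPGroup 2 W := T.isPGroup'.to_le h.le
  obtain ⟨R, hR⟩ := (hWp.of_equiv (subgroupOfEquivOfLe hWC).symm).exists_le_sylow
  obtain ⟨R', hR'⟩ := ((hWp.map _).of_equiv (subgroupOfEquivOfLe hgC).symm).exists_le_sylow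
  obtain ⟨c, hc⟩ := MulAction.exists_smul_eq C R R'
  refine ⟨(c : G), mem_centralizer_singleton_iff.mp c.2, ?_⟩
  -- the image of `R` is a 2-group containing both `W` and `c⁻¹ g W g⁻¹ c`
  set P := (R : Subgroup C).map C.subtype with hP
  have hPp : IsPGroup 2 P := R.isPGroup'.map _
  obtain ⟨Q, hQ⟩ := hPp.exists_le_sylow
  obtain ⟨d, hd⟩ := MulAction.exists_smul_eq G Q T
  have hmem : ∀ y ∈ P, d * y * d⁻¹ ∈ T := fun y hy => by
    rw [← hd, mem_conj_iff, show d⁻¹ * (d * y * d⁻¹) * d = y by group]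
    exact hQ hy
  have h1 : d ∈ normalizer (W : Set G) :=
    h.normalizes fun w hw => hmem w ⟨⟨w, hWC hw⟩, hR (mem_subgroupOf.mpr hw), rfl⟩
  have h2 : d * ((c : G)⁻¹ * g) ∈ normalizer (W : Set G) := h.normalizes fun w hw => by
    have h3 : (⟨g * w * g⁻¹, hgC ⟨w, hw, rfl⟩⟩ : C) ∈ (R' : Subgroup C) :=
      hR' (mem_subgroupOf.mpr ⟨w, hw, rfl⟩)
    rw [← hc, Sylow.coe_subgroup_smul, mem_pointwise_smul_iff_inv_smul_mem] at h3
    simp only [← map_inv, MulAut.smul_def, MulAut.conj_apply, inv_inv] at h3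
    rw [show d * ((c : G)⁻¹ * g) * w * (d * ((c : G)⁻¹ * g))⁻¹ =
      d * ((c : G)⁻¹ * (g * w * g⁻¹) * (c : G)) * d⁻¹ by group]
    exact hmem _ ⟨_, h3, rfl⟩
  rw [show (c : G)⁻¹ * g = d⁻¹ * (d * ((c : G)⁻¹ * g)) by group]
  exact mul_mem (inv_mem h1) h2

/-- A conjugate of `w t` centralizing `W` is a conjugate of it under the normalizer of `W`. -/
theorem exists_normalizer_conj (h : Data T W t) {w g : G} (hw : w ∈ W)
    (hg : ∀ u ∈ W, Commute (g * (w * t) * g⁻¹) u) :
    ∃ n ∈ normalizer (W : Set G), g * (w * t) * g⁻¹ = n * (w * t) * n⁻¹ := by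
  obtain ⟨k, hk, hn⟩ := h.exists_conj_centralizer (x := w * t) (g := g⁻¹)
    (fun u hu => h.commute_mul hw hu) (fun u hu => by
      rw [inv_inv]
      show w * t * (g⁻¹ * u * g) = g⁻¹ * u * g * (w * t)
      calc w * t * (g⁻¹ * u * g) = g⁻¹ * (g * (w * t) * g⁻¹ * u) * g := by group
        _ = g⁻¹ * (u * (g * (w * t) * g⁻¹)) * g := by rw [(hg u hu).eq]
        _ = g⁻¹ * u * g * (w * t) := by group)
  refine ⟨g * k, by rw [show g * k = (k⁻¹ * g⁻¹)⁻¹ by group]; exact inv_mem hn, ?_⟩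
  calc g * (w * t) * g⁻¹ = g * ((w * t) * k) * k⁻¹ * g⁻¹ := by group
    _ = g * (k * (w * t)) * k⁻¹ * g⁻¹ := by rw [hk.eq]
    _ = g * k * (w * t) * (g * k)⁻¹ := by group

/-- Conjugates of `t` are not in `W`. -/
theorem conj_notMem (h : Data T W t) {w : G} (hw : w ∈ W) (g : G) : g * (w * t) * g⁻¹ ∉ W := by
  intro hmem
  obtain ⟨n, hn, he⟩ := h.exists_normalizer_conj hw fun u hu => h.central _ (h.le hmem) u hu
  rw [he] at hmem
  have h1 := (mem_normalizer_iff.mp hn _).mpr hmem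
  exact h.notMem (by simpa using mul_mem (inv_mem hw) h1)

/-- Transport along conjugation and change of the Sylow subgroup. -/
theorem of_conj (h : Data T W t) {g : G} (hg : ∀ u ∈ W, Commute (g * t * g⁻¹) u) :
    ∃ T' : Sylow 2 G, Data T' W (g * t * g⁻¹) := by
  haveI : Fact (Nat.Prime 2) := ⟨Nat.prime_two⟩
  have hg' : ∀ u ∈ W, Commute (g * (1 * t) * g⁻¹) u := by simpa using hg
  obtain ⟨n, hn, he⟩ := h.exists_normalizer_conj (one_mem W) hg'
  rw [one_mul] at he
  rw [he]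
  have hnW : ∀ u, u ∈ W ↔ n * u * n⁻¹ ∈ W := mem_normalizer_iff.mp hn
  have hninv : ∀ u ∈ W, n⁻¹ * u * n ∈ W := fun u hu => (hnW _).mpr (by
    rwa [show n * (n⁻¹ * u * n) * n⁻¹ = u by group])
  refine ⟨n • T, ?_⟩
  constructor
  · intro w hw
    change w ∈ n • T
    rw [mem_conj_iff]
    exact h.le (hninv w hw)
  · intro s hs w hw
    rw [mem_conj_iff] at hs
    have h1 := h.central _ hs _ (hninv w hw)
    show s * w = w * s
    calc s * w = n * (n⁻¹ * s * n * (n⁻¹ * w * n)) * n⁻¹ := by group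
      _ = n * (n⁻¹ * w * n * (n⁻¹ * s * n)) * n⁻¹ := by rw [h1.eq]
      _ = w * s := by group
  · exact h.elem
  · intro k hk w hw
    have h1 := h.closed (n⁻¹ * k) (fun u hu => by
      have h2 := hk u hu
      rw [mem_conj_iff] at h2
      rwa [show n⁻¹ * k * u * (n⁻¹ * k)⁻¹ = n⁻¹ * (k * u * k⁻¹) * n by group]) w hw
    have h2 := (hnW _).mp h1
    rwa [show n * (n⁻¹ * k * w * (n⁻¹ * k)⁻¹) * n⁻¹ = k * w * k⁻¹ by group] at h2
  · rw [mem_conj_iff, show n⁻¹ * (n * t * n⁻¹) * n = t by group]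
    exact h.mem
  · rw [show n * t * n⁻¹ * (n * t * n⁻¹) = n * (t * t) * n⁻¹ by group, h.sq]; group
  · exact fun h1 => h.notMem ((hnW t).mpr h1)
  · intro w hw a ha u hu
    set w' := n⁻¹ * w * n with hw'
    have hwt : w * (n * t * n⁻¹) = n * (w' * t) * n⁻¹ := by rw [hw']; group
    have ha' : Commute (n⁻¹ * a * n) (w' * t) := by
      show _ * _ = _ * _
      calc n⁻¹ * a * n * (w' * t) = n⁻¹ * (a * (n * (w' * t) * n⁻¹)) * n := by group
        _ = n⁻¹ * ((n * (w' * t) * n⁻¹) * a) * n := by rw [← hwt, ha.eq]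
        _ = w' * t * (n⁻¹ * a * n) := by group
    obtain ⟨D, hDo, hDle, hDn, v, hv, hvD⟩ :=
      h.hyp w' (hninv w hw) _ ha' _ (hninv u hu)
    have hcm : ∀ c : G, c ∈ centralizer ({w * (n * t * n⁻¹)} : Set G) ↔
        n⁻¹ * c * n ∈ centralizer ({w' * t} : Set G) := by
      intro c
      rw [mem_centralizer_singleton_iff, mem_centralizer_singleton_iff, hwt]
      constructor <;> intro e
      · calc n⁻¹ * c * n * (w' * t) = n⁻¹ * (c * (n * (w' * t) * n⁻¹)) * n := by group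
          _ = n⁻¹ * (n * (w' * t) * n⁻¹ * c) * n := by rw [e]
          _ = w' * t * (n⁻¹ * c * n) := by group
      · calc c * (n * (w' * t) * n⁻¹) = n * (n⁻¹ * c * n * (w' * t)) * n⁻¹ := by group
          _ = n * (w' * t * (n⁻¹ * c * n)) * n⁻¹ := by rw [e]
          _ = n * (w' * t) * n⁻¹ * c := by group
    have hDmem : ∀ y : G, y ∈ D.map (MulAut.conj n).toMonoidHom ↔ n⁻¹ * y * n ∈ D := by
      intro y
      constructor
      · rintro ⟨d, hd, rfl⟩
        simpa [mul_assoc] using hd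
      · exact fun hy => ⟨_, hy, by simp [mul_assoc]⟩
    refine ⟨D.map (MulAut.conj n).toMonoidHom, ?_, fun y hy => ?_, fun y hy => ?_, n * v * n⁻¹,
      (hnW v).mp hv, ?_⟩
    · rwa [card_map_of_injective (MulAut.conj n).injective]
    · exact (hcm y).mpr (hDle ((hDmem y).mp hy))
    · rw [mem_normalizer_iff]
      intro d
      rw [hDmem, hDmem, mem_normalizer_iff.mp (hDn ((hcm y).mp hy)) (n⁻¹ * d * n),
        show n⁻¹ * y * n * (n⁻¹ * d * n) * (n⁻¹ * y * n)⁻¹ = n⁻¹ * (y * d * y⁻¹) * n by group]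
    · rw [hDmem, show n⁻¹ * ((n * v * n⁻¹)⁻¹ * (a * u * a⁻¹)) * n =
        v⁻¹ * (n⁻¹ * a * n * (n⁻¹ * u * n) * (n⁻¹ * a * n)⁻¹) by group]
      exact hvD

/-- Restriction to a subgroup containing `W` and `t`. -/
theorem restrict (h : Data T W t) (H : Subgroup G) (hWH : W ≤ H) (htH : t ∈ H) :
    ∃ S : Sylow 2 H, Data S (W.subgroupOf H) ⟨t, htH⟩ := by
  haveI : Fact (Nat.Prime 2) := ⟨Nat.prime_two⟩
  have hp : IsPGroup 2 ((T : Subgroup G).subgroupOf H) :=
    T.isPGroup'.comap_of_injective H.subtype (subtype_injective H)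
  obtain ⟨S, hS⟩ := hp.exists_le_sylow
  have hSp : IsPGroup 2 ((S : Subgroup H).map H.subtype) := S.isPGroup'.map _
  have hWS : W ≤ (S : Subgroup H).map H.subtype := fun w hw =>
    ⟨⟨w, hWH hw⟩, hS (mem_subgroupOf.mpr (h.le hw)), rfl⟩
  refine ⟨S, ⟨fun w hw => hS (mem_subgroupOf.mpr (h.le (mem_subgroupOf.mp hw))), ?_, ?_, ?_, ?_, ?_,
    ?_, ?_⟩⟩
  · intro s hs w hw
    exact Subtype.ext (h.commute_of_isPGroup hSp hWS ⟨s, hs, rfl⟩ (mem_subgroupOf.mp hw)).eq
  · exact fun w hw => Subtype.ext (h.elem w (mem_subgroupOf.mp hw))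
  · intro g hg w hw
    rw [mem_subgroupOf] at hw ⊢
    obtain ⟨Q, hQ⟩ := hSp.exists_le_sylow
    obtain ⟨c, hc⟩ := MulAction.exists_smul_eq G Q T
    have hmem : ∀ y ∈ (S : Subgroup H).map H.subtype, c * y * c⁻¹ ∈ T := fun y hy => by
      rw [← hc, mem_conj_iff, show c⁻¹ * (c * y * c⁻¹) * c = y by group]
      exact hQ hy
    have h1 := h.normalizes fun v hv => hmem v (hWS hv)
    have h2 : c * (g : G) ∈ normalizer (W : Set G) := h.normalizes fun v hv => by
      rw [show c * (g : G) * v * (c * (g : G))⁻¹ = c * ((g : G) * v * (g : G)⁻¹) * c⁻¹ by group]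
      exact hmem _ ⟨g * ⟨v, hWH hv⟩ * g⁻¹, hg _ (mem_subgroupOf.mpr hv), rfl⟩
    have h3 : (g : G) ∈ normalizer (W : Set G) := by
      rw [show (g : G) = c⁻¹ * (c * g) by group]; exact mul_mem (inv_mem h1) h2
    exact (mem_normalizer_iff.mp h3 w).mp hw
  · exact hS (mem_subgroupOf.mpr h.mem)
  · exact Subtype.ext h.sq
  · exact fun h1 => h.notMem (mem_subgroupOf.mp h1)
  · intro w hw a ha u hu
    obtain ⟨D, hDo, hDle, hDn, v, hv, hvD⟩ :=
      h.hyp w (mem_subgroupOf.mp hw) a (ha.map H.subtype) u (mem_subgroupOf.mp hu)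
    refine ⟨D.subgroupOf H, ?_, fun y hy => ?_, fun y hy => ?_, ⟨v, hWH hv⟩,
      mem_subgroupOf.mpr hv, mem_subgroupOf.mpr hvD⟩
    · exact Odd.of_dvd_nat hDo (card_comap_dvd_of_injective D H.subtype (subtype_injective H))
    · rw [mem_centralizer_singleton_iff]
      exact Subtype.ext (mem_centralizer_singleton_iff.mp (hDle (mem_subgroupOf.mp hy)))
    · have hy' : (y : G) ∈ centralizer ({(w : G) * t} : Set G) :=
        mem_centralizer_singleton_iff.mpr (congrArg Subtype.val (mem_centralizer_singleton_iff.mp hy))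
      rw [mem_normalizer_iff]
      intro d
      rw [mem_subgroupOf, mem_subgroupOf]
      exact mem_normalizer_iff.mp (hDn hy') d

/-- Passage to a quotient. -/
theorem quotient (h : Data T W t) (N : Subgroup G) [N.Normal] (htN : t ∉ W ⊔ N)
    (hfix : ∀ w ∈ W, ∀ a : G, a * (w * t) * a⁻¹ * (w * t)⁻¹ ∈ N →
      ∃ n ∈ N, ∀ c : G, Commute c (w * t) ↔ Commute c (n * a * (w * t) * (n * a)⁻¹)) :
    ∃ T' : Sylow 2 (G ⧸ N),
      Data T' (W.map (QuotientGroup.mk' N)) (QuotientGroup.mk' N t) := by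
  haveI : Fact (Nat.Prime 2) := ⟨Nat.prime_two⟩
  set f := QuotientGroup.mk' N with hf
  have hfs : Function.Surjective f := QuotientGroup.mk'_surjective N
  have hker : ∀ x, f x = 1 ↔ x ∈ N := fun x => QuotientGroup.eq_one_iff x
  refine ⟨T.mapSurjective hfs, ⟨map_mono h.le, ?_, ?_, ?_, ⟨t, h.mem, rfl⟩, ?_, ?_, ?_⟩⟩
  · rintro _ ⟨s, hs, rfl⟩ _ ⟨w, hw, rfl⟩
    exact (h.central s hs w hw).map f
  · rintro _ ⟨w, hw, rfl⟩
    rw [← map_mul, h.elem w hw, map_one]
  · intro g hg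
    obtain ⟨a, rfl⟩ := hfs g
    -- move `a W a⁻¹` into `T` by an element of `T ⊔ N`
    set L := (T : Subgroup G) ⊔ N with hL
    have haL : W.map (MulAut.conj a).toMonoidHom ≤ L := by
      rintro _ ⟨w, hw, rfl⟩
      obtain ⟨s, hs, he⟩ := hg (f w) ⟨w, hw, rfl⟩
      have h1 : s⁻¹ * (a * w * a⁻¹) ∈ N := by
        rw [← hker, map_mul, map_inv, he, map_mul, map_mul, map_inv]; group
      rw [show (MulAut.conj a).toMonoidHom w = s * (s⁻¹ * (a * w * a⁻¹)) by simp]
      exact mul_mem (mem_sup_left hs) (mem_sup_right h1)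
    have hWp : IsPGroup 2 W := T.isPGroup'.to_le h.le
    obtain ⟨R, hR⟩ := ((hWp.map (MulAut.conj a).toMonoidHom).of_equiv
      (subgroupOfEquivOfLe haL).symm).exists_le_sylow
    obtain ⟨c, hc⟩ := MulAction.exists_smul_eq L R (T.subtype le_sup_left)
    have hca : (c : G) * a ∈ normalizer (W : Set G) := h.normalizes fun w hw => by
      have h3 : c * ⟨a * w * a⁻¹, haL ⟨w, hw, rfl⟩⟩ * c⁻¹ ∈ (c • R : Sylow 2 L) := by
        change _ ∈ ((c • R : Sylow 2 L) : Subgroup L)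
        rw [Sylow.coe_subgroup_smul, ← MulAut.conj_apply, ← MulAut.smul_def]
        exact smul_mem_pointwise_smul _ _ _ (hR (mem_subgroupOf.mpr ⟨w, hw, rfl⟩))
      rw [hc] at h3
      rw [show (c : G) * a * w * ((c : G) * a)⁻¹ = (c : G) * (a * w * a⁻¹) * (c : G)⁻¹ by group]
      exact h3
    obtain ⟨s, hs, o, ho, he⟩ : ∃ s ∈ T, ∃ o ∈ N, (c : G) = s * o := by
      have : (c : G) ∈ ((T : Subgroup G) ⊔ N : Subgroup G) := c.2
      rw [← SetLike.mem_coe, Subgroup.mul_normal] at this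
      obtain ⟨s, hs, o, ho, e⟩ := Set.mem_mul.mp this
      exact ⟨s, hs, o, ho, e.symm⟩
    have hoa : o * a ∈ normalizer (W : Set G) := by
      have hsN : s ∈ normalizer (W : Set G) := by
        rw [mem_normalizer_iff]
        intro w
        constructor <;> intro hw
        · rwa [(h.central s hs w hw).eq, mul_inv_cancel_right]
        · have h5 : s⁻¹ * (s * w * s⁻¹) * s⁻¹⁻¹ = s * w * s⁻¹ := by
            rw [(h.central s⁻¹ (inv_mem hs) _ hw).eq, mul_inv_cancel_right]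
          rw [show s⁻¹ * (s * w * s⁻¹) * s⁻¹⁻¹ = w by group] at h5
          rwa [h5]
      rw [show o * a = s⁻¹ * ((c : G) * a) by rw [he]; group]
      exact mul_mem (inv_mem hsN) hca
    rintro _ ⟨w, hw, rfl⟩
    refine ⟨o * a * w * (o * a)⁻¹, (mem_normalizer_iff.mp hoa w).mp hw, ?_⟩
    simp [map_mul, map_inv, (hker o).mpr ho]
  · rw [← map_mul, h.sq, map_one]
  · rintro ⟨w, hw, he⟩
    refine htN ?_
    rw [show t = w * (w⁻¹ * t) by group]
    refine mul_mem (mem_sup_left hw) (mem_sup_right ?_)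
    rw [← hker, map_mul, map_inv, he, inv_mul_cancel]
  · rintro _ ⟨w, hw, rfl⟩ A hA _ ⟨u, hu, rfl⟩
    -- lift elements of the centralizer
    have lift : ∀ A : G ⧸ N, Commute A (f w * f t) →
        ∃ b : G, f b = A ∧ ∀ c : G, Commute c (w * t) ↔ Commute c (b * (w * t) * b⁻¹) := by
      intro A hA
      obtain ⟨a, rfl⟩ := hfs A
      obtain ⟨n, hn, hc⟩ := hfix w hw a (by
        rw [← hker, map_mul, map_mul, map_mul, map_inv, map_inv, map_mul, hA.eq]; group)
      exact ⟨n * a, by rw [map_mul, (hker n).mpr hn, one_mul], hc⟩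
    obtain ⟨b, hb, hbc⟩ := lift A hA
    obtain ⟨k, hk, hkb⟩ := h.exists_conj_centralizer (x := w * t) (g := b)
      (fun u hu => h.commute_mul hw hu) (fun u hu => by
        refine ((hbc (b * u * b⁻¹)).mpr ?_).symm
        show _ * _ = _ * _
        calc b * u * b⁻¹ * (b * (w * t) * b⁻¹) = b * (u * (w * t)) * b⁻¹ := by group
          _ = b * (w * t * u) * b⁻¹ := by rw [(h.commute_mul hw hu).eq]
          _ = b * (w * t) * b⁻¹ * (b * u * b⁻¹) := by group)
    have hu' : k⁻¹ * b * u * (k⁻¹ * b)⁻¹ ∈ W := (mem_normalizer_iff.mp hkb u).mp hu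
    obtain ⟨D₀, hD₀o, hD₀le, hD₀n, v₀, hv₀, hvD₀⟩ := h.hyp w hw k hk _ hu'
    rw [show k * (k⁻¹ * b * u * (k⁻¹ * b)⁻¹) * k⁻¹ = b * u * b⁻¹ by group] at hvD₀
    set C := centralizer ({w * t} : Set G) with hCdef
    set D := (Cfsg.pPrimeCore 2 C).map C.subtype with hD
    have hDle : D ≤ C := map_subtype_le _
    have hD₀D : D₀ ≤ D := by
      haveI : (D₀.subgroupOf C).Normal := normal_subgroupOf_of_le_normalizer hD₀n
      have h1 : D₀.subgroupOf C ≤ Cfsg.pPrimeCore 2 C := Thompson.le_pPrimeCore inferInstance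
        (Nat.coprime_two_right.mpr (by rwa [Nat.card_congr (subgroupOfEquivOfLe hD₀le).toEquiv]))
      intro d hd
      exact ⟨⟨d, hD₀le hd⟩, h1 (mem_subgroupOf.mpr hd), rfl⟩
    refine ⟨D.map f, ?_, ?_, ?_, f v₀, ⟨v₀, hv₀, rfl⟩, v₀⁻¹ * (b * u * b⁻¹), hD₀D hvD₀, ?_⟩
    · refine Odd.of_dvd_nat ?_ (card_map_dvd D f)
      rw [hD, card_map_of_injective (subtype_injective C)]
      exact Nat.coprime_two_right.mp Thompson.card_pPrimeCore_coprime
    · rintro _ ⟨d, hd, rfl⟩
      rw [← map_mul, mem_centralizer_singleton_iff, ← map_mul, ← map_mul,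
        mem_centralizer_singleton_iff.mp (hDle hd)]
    · intro A' hA'
      rw [← map_mul, mem_centralizer_singleton_iff, map_mul] at hA'
      obtain ⟨b', rfl, hb'⟩ := lift A' hA'
      have hcent : ∀ z : G, z ∈ C ↔ b' * z * b'⁻¹ ∈ C := by
        intro z
        rw [hCdef, mem_centralizer_singleton_iff, mem_centralizer_singleton_iff]
        constructor <;> intro e
        · refine ((hb' _).mpr ?_).eq
          show _ * _ = _ * _
          calc b' * z * b'⁻¹ * (b' * (w * t) * b'⁻¹) = b' * (z * (w * t)) * b'⁻¹ := by group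
            _ = b' * (w * t * z) * b'⁻¹ := by rw [e]
            _ = b' * (w * t) * b'⁻¹ * (b' * z * b'⁻¹) := by group
        · have e' := ((hb' _).mp (show Commute _ _ from e)).eq
          calc z * (w * t) = b'⁻¹ * (b' * z * b'⁻¹ * (b' * (w * t) * b'⁻¹)) * b' := by group
            _ = b'⁻¹ * (b' * (w * t) * b'⁻¹ * (b' * z * b'⁻¹)) * b' := by rw [e']
            _ = w * t * z := by group
      let φ : C ≃* C :=
        { toFun := fun z => ⟨b' * z.1 * b'⁻¹, (hcent z.1).mp z.2⟩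
          invFun := fun z => ⟨b'⁻¹ * z.1 * b', (hcent _).mpr (by
            rw [show b' * (b'⁻¹ * z.1 * b') * b'⁻¹ = z.1 by group]; exact z.2)⟩
          left_inv := fun z => Subtype.ext (show b'⁻¹ * (b' * z.1 * b'⁻¹) * b' = z.1 by group)
          right_inv := fun z => Subtype.ext (show b' * (b'⁻¹ * z.1 * b') * b'⁻¹ = z.1 by group)
          map_mul' := fun y z => Subtype.ext
            (show b' * (y.1 * z.1) * b'⁻¹ = b' * y.1 * b'⁻¹ * (b' * z.1 * b'⁻¹) by group) }
      have hchar := Thompson.map_pPrimeCore_equiv (p := 2) φ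
      have hbD : b' ∈ normalizer (D : Set G) := by
        rw [mem_normalizer_iff]
        intro d
        constructor
        · rintro ⟨z, hz, rfl⟩
          exact ⟨φ z, hchar ▸ ⟨z, hz, rfl⟩, rfl⟩
        · rintro ⟨z, hz, he⟩
          rw [← hchar] at hz
          obtain ⟨z', hz', rfl⟩ := hz
          refine ⟨z', hz', ?_⟩
          exact mul_left_cancel (mul_right_cancel (he : b' * z'.1 * b'⁻¹ = b' * d * b'⁻¹))
      exact Subgroup.le_normalizer_map f ⟨b', hbD, rfl⟩
    · rw [map_mul, map_mul, map_mul, map_inv, map_inv, hb]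

end Data

end Cfsg.Agent.H40.WeakClosure
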