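import Cfsg.Agent.ZStar.Blocks
import Cfsg.Agent.Lib.BlocksCore.WeakOrth
import Cfsg.Agent.Lib.BlocksCore.SecondMain
import Cfsg.Agent.Lib.SmallGroups.SelfCent.Two
import Cfsg.Agent.Lib.Involution.Dihedral

/-!
Character-theoretic tools for the weak closure criterion.
-/

set_option autoImplicit false

open Cfsg
open scoped ComplexConjugate

namespace Cfsg.Agent.H40.WeakClosure

/-- A nonzero constant is not a combination of eigenfunctions of averaging operators whose
eigenvalues are not all one. -/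
theorem elim {ι κ J Γ : Type*} [Fintype Γ] [Nonempty Γ] [Nonempty ι] (π : J → Γ → ι → ι)
    (f : κ → ι → ℂ) (r : κ → J → ℂ)
    (hP : ∀ χ z w, ∑ g, f χ (π z g w) = (Fintype.card Γ : ℂ) * r χ z * f χ w)
    (S : Finset κ) : (∀ χ ∈ S, ∃ z, r χ z ≠ 1) → ∀ (a : κ → ℂ) (β : ℂ),
      (∀ w, ∑ χ ∈ S, a χ * f χ w = β) → β = 0 := by
  classical
  induction S using Finset.induction with
  | empty =>
    intro _ a β h
    simpa using (h (Classical.arbitrary ι)).symm
  | insert χ₀ S hni ih =>
    intro hS a β h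
    obtain ⟨z, hz⟩ := hS χ₀ (Finset.mem_insert_self _ _)
    have hn : (Fintype.card Γ : ℂ) ≠ 0 := Nat.cast_ne_zero.mpr Fintype.card_ne_zero
    have h2 : ∀ w, ∑ χ ∈ insert χ₀ S, a χ * r χ z * f χ w = β := by
      intro w
      have e : ∑ g : Γ, ∑ χ ∈ insert χ₀ S, a χ * f χ (π z g w) = (Fintype.card Γ : ℂ) * β := by
        rw [Finset.sum_congr rfl (fun g _ => h (π z g w)), Finset.sum_const, Finset.card_univ,
          nsmul_eq_mul]
      rw [Finset.sum_comm] at e
      apply mul_left_cancel₀ hn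
      rw [← e, Finset.mul_sum]
      refine Finset.sum_congr rfl fun χ _ => ?_
      rw [← Finset.mul_sum, hP]
      ring
    have h3 := ih (fun χ hχ => hS χ (Finset.mem_insert_of_mem hχ))
      (fun χ => a χ * (r χ z - r χ₀ z)) (β * (1 - r χ₀ z)) (fun w => by
        have e1 : ∑ χ ∈ insert χ₀ S, a χ * (r χ z - r χ₀ z) * f χ w = β * (1 - r χ₀ z) := by
          have e0 : ∀ χ, a χ * (r χ z - r χ₀ z) * f χ w =
              a χ * r χ z * f χ w - r χ₀ z * (a χ * f χ w) := fun χ => by ring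
          simp only [e0, Finset.sum_sub_distrib, ← Finset.mul_sum, h w, h2 w]
          ring
        rwa [Finset.sum_insert hni, sub_self, mul_zero, zero_mul, zero_add] at e1)
    exact (mul_eq_zero.mp h3).resolve_right (sub_ne_zero.mpr (Ne.symm hz))

theorem two_pow_dvd_of_local {M : Ideal AlgInt} [M.IsPrime] (hM : IsPModular 2 M) :
    ∀ (a n : ℕ) (r : ℂ), MemLocalRing M r → (n : ℂ) = (2 : ℂ) ^ a * r → 2 ^ a ∣ n := by
  intro a
  induction a with
  | zero => intro n r _ _; exact one_dvd _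
  | succ a ih =>
    intro n r hr h
    have h2 : MemLocalIdeal M ((2 : ℕ) : ℂ) :=
      (BlocksCore.memLocalIdeal_natCast_iff hM 2).mpr dvd_rfl
    have hpow : MemLocalRing M ((2 : ℂ) ^ a * r) := by
      refine (BlocksCore.localRing M).mul_mem ?_ hr
      have : MemLocalRing M ((2 ^ a : ℕ) : ℂ) := BlocksCore.memLocalRing_natCast _
      push_cast at this
      exact this
    have hn : MemLocalIdeal M (n : ℂ) := by
      have := BlocksCore.memLocalIdeal_mul_right h2 hpow
      rw [h, pow_succ]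
      convert this using 1
      push_cast
      ring
    obtain ⟨n', rfl⟩ := (BlocksCore.memLocalIdeal_natCast_iff hM n).mp hn
    rw [pow_succ']
    refine Nat.mul_dvd_mul_left 2 (ih n' r hr ?_)
    push_cast [pow_succ'] at h
    linear_combination h / 2

variable {G : Type*} [Group G] [Fintype G]

open Subgroup

/-- The norm of the column of an involution in a 2-block is divisible by the 2-part of the order of
its centralizer. -/
theorem exists_blockNorm {M : Ideal AlgInt} (hM : IsPModular 2 M) {B : Set (IrrCharacter G)}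
    (hB : IsPBlock M B) (Bf : Finset (IrrCharacter G)) (hBf : ∀ χ, χ ∈ Bf ↔ χ ∈ B)
    (hone : ∃ χ ∈ Bf, ∀ g : G, (χ : G → ℂ) g = 1) {v : G} (hv : v * v = 1) :
    ∃ n : ℕ, (n : ℂ) = ∑ χ ∈ Bf, (χ : G → ℂ) v ^ 2 ∧ 0 < n ∧
      ∀ P : Subgroup G, P ≤ centralizer ({v} : Set G) → IsPGroup 2 P → Nat.card P ∣ n := by
  classical
  haveI := BlocksCore.isPrime hM
  have hint : ∀ χ : IrrCharacter G, ∃ m : ℤ, (χ : G → ℂ) v = m := fun χ =>
    SmallGroups.SelfCent.exists_int_of_sq_eq_one χ (by rw [sq]; exact hv)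
  choose m hm using hint
  have hnn : 0 ≤ ∑ χ ∈ Bf, m χ ^ 2 := Finset.sum_nonneg fun χ _ => sq_nonneg _
  have hcast : ((∑ χ ∈ Bf, m χ ^ 2).toNat : ℂ) = ∑ χ ∈ Bf, (χ : G → ℂ) v ^ 2 := by
    rw [← Int.cast_natCast, Int.toNat_of_nonneg hnn]
    push_cast
    exact Finset.sum_congr rfl fun χ _ => by rw [hm]
  refine ⟨(∑ χ ∈ Bf, m χ ^ 2).toNat, hcast, ?_, ?_⟩
  · obtain ⟨χ, hχ, h1⟩ := hone
    have h : m χ = 1 := by
      have := hm χ; rw [h1] at this; exact_mod_cast this.symm
    have h' : 1 ≤ ∑ χ ∈ Bf, m χ ^ 2 :=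
      le_trans (by rw [h]; norm_num) (Finset.single_le_sum (fun χ _ => sq_nonneg (m χ)) hχ)
    omega
  intro P hP hP2
  haveI : Fact (Nat.Prime 2) := ⟨Nat.prime_two⟩
  obtain ⟨a, ha⟩ := IsPGroup.iff_card.mp hP2
  obtain ⟨b, hb⟩ := ha ▸ card_dvd_of_le hP
  set C := centralizer ({v} : Set G) with hC
  set e := blockCoeff B with he
  have hvi : v⁻¹ = v := inv_eq_of_mul_eq_one_left hv
  haveI := BlocksCore.finite_irr (G := G)
  haveI := Fintype.ofFinite (IrrCharacter G)
  -- the coefficient formula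
  have hsum : ∑ h : G, e (v * (h * v * h⁻¹)) = ∑ χ ∈ Bf, (χ : G → ℂ) v ^ 2 := by
    have h1 : ∀ h : G, e (v * (h * v * h⁻¹)) = (Nat.card G : ℂ)⁻¹ *
        ∑ χ : IrrCharacter G, B.indicator 1 χ * ((χ : G → ℂ) 1 * (χ : G → ℂ) (h * v * h⁻¹ * v)) := by
      intro h
      rw [he, BlocksCore.blockCoeff_eq_sum]
      congr 1
      refine Finset.sum_congr rfl fun χ _ => ?_
      congr 3
      rw [mul_inv_rev, mul_inv_rev, mul_inv_rev, inv_inv, hvi]
      group
    simp only [h1]
    rw [← Finset.mul_sum, Finset.sum_comm]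
    simp only [← Finset.mul_sum]
    have h2 : ∀ χ : IrrCharacter G, ∑ h : G, (χ : G → ℂ) (h * v * h⁻¹ * v) =
        (Nat.card G : ℂ) * (χ : G → ℂ) v * (χ : G → ℂ) v / (χ : G → ℂ) 1 := by
      intro χ
      rw [← BlocksCore.sum_char_conj_mul χ v v]
      exact Fintype.sum_equiv (Equiv.inv G) _ _ fun h => by simp
    simp only [h2]
    rw [Finset.mul_sum]
    symm
    rw [← Finset.sum_subset (Finset.subset_univ Bf)]
    · refine Finset.sum_congr rfl fun χ hχ => ?_
      rw [Set.indicator_of_mem ((hBf χ).mp hχ), Pi.one_apply]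
      have h3 := BlocksCore.irr_one_ne_zero χ
      have h4 : (Nat.card G : ℂ) ≠ 0 := Nat.cast_ne_zero.mpr Nat.card_pos.ne'
      field_simp
    · intro χ _ hχ
      rw [Set.indicator_of_notMem (fun h => hχ ((hBf χ).mpr h))]
      ring
  -- constancy on cosets of the centralizer
  set s : ℂ := ∑ᶠ q : G ⧸ C, e (v * (q.out * v * q.out⁻¹)) with hs
  have hcoset : ∑ h : G, e (v * (h * v * h⁻¹)) = (Nat.card C : ℂ) * s := by
    haveI := Fintype.ofFinite (G ⧸ C)
    haveI := Fintype.ofFinite C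
    let E : (G ⧸ C) × C ≃ G :=
      { toFun := fun p => p.1.out * p.2.1
        invFun := fun g => ((g : G ⧸ C), ⟨(g : G ⧸ C).out⁻¹ * g,
          QuotientGroup.eq.mp (QuotientGroup.out_eq' _)⟩)
        left_inv := fun p => by
          have h1 : ((p.1.out * p.2.1 : G) : G ⧸ C) = p.1 := by
            rw [QuotientGroup.mk_mul_of_mem _ p.2.2, QuotientGroup.out_eq']
          refine Prod.ext h1 (Subtype.ext ?_)
          show ((p.1.out * p.2.1 : G) : G ⧸ C).out⁻¹ * (p.1.out * p.2.1) = p.2.1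
          rw [h1, inv_mul_cancel_left]
        right_inv := fun g => mul_inv_cancel_left _ _ }
    rw [hs, finsum_eq_sum_of_fintype, Finset.mul_sum, ← Equiv.sum_comp E, Fintype.sum_prod_type]
    refine Finset.sum_congr rfl fun q _ => ?_
    have hc : ∀ c : C, e (v * (E (q, c) * v * (E (q, c))⁻¹)) =
        e (v * (q.out * v * q.out⁻¹)) := by
      intro c
      congr 2
      show q.out * (c : G) * v * (q.out * (c : G))⁻¹ = _
      rw [mul_assoc q.out, mem_centralizer_singleton_iff.mp c.2]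
      group
    simp only [hc, Finset.sum_const, Finset.card_univ, nsmul_eq_mul, Nat.card_eq_fintype_card]
  have hsloc : MemLocalRing M s := by
    haveI := Fintype.ofFinite (G ⧸ C)
    rw [hs, finsum_eq_sum_of_fintype]
    exact BlocksCore.memLocalRing_sum fun q _ => (BlocksCore.isIntClassFun_blockCoeff hM hB).2 _
  rw [ha]
  refine two_pow_dvd_of_local hM a _ ((b : ℂ) * s)
    ((BlocksCore.localRing M).mul_mem (BlocksCore.memLocalRing_natCast b) hsloc) ?_
  rw [hcast, ← hsum, hcoset, hb]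
  push_cast
  ring

/-- Irreducible characters trivial on a normal subgroup `K` with `G = K ∪ K t` for an involution
`t` take the value `±1` at `t`, and there are at most two of them. -/
theorem small_quotient_chars (K : Subgroup G) [K.Normal] {t : G} (ht : t * t = 1)
    (hKt : ∀ g : G, g ∈ K ∨ g * t ∈ K) (S : Finset (IrrCharacter G))
    (hS : ∀ χ ∈ S, ∀ k ∈ K, (χ : G → ℂ) k = (χ : G → ℂ) 1) :
    S.card ≤ 2 ∧ ∀ χ ∈ S, (χ : G → ℂ) t ^ 2 = 1 := by
  classical
  have hval : ∀ χ ∈ S, ∀ g : G, g ∉ K → (χ : G → ℂ) g = (χ : G → ℂ) t := by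
    intro χ hχ g hg
    have hk : g * t ∈ K := (hKt g).resolve_left hg
    have hk' : t * (g * t) * t⁻¹ ∈ K := Subgroup.Normal.conj_mem inferInstance _ hk t
    have h1 := CharCore.IsCharacter.apply_mul_of_mem_kernel (CharCore.irr_isCharacter χ)
      (hS χ hχ _ hk') t
    rw [show t * (t * (g * t) * t⁻¹) = (t * t) * g by group, ht, one_mul] at h1
    exact h1
  have hboth : ∀ χ ∈ S, (χ : G → ℂ) 1 = 1 ∧ ((χ : G → ℂ) t = 1 ∨ (χ : G → ℂ) t = -1) := by
    intro χ hχ
    obtain ⟨d, hd0, hd, -⟩ := BlocksCore.exists_degree χ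
    obtain ⟨m, hm⟩ := SmallGroups.SelfCent.exists_int_of_sq_eq_one χ (x := t) (by rw [sq]; exact ht)
    set a := (Finset.univ.filter fun g : G => g ∈ K).card with ha
    set b := (Finset.univ.filter fun g : G => g ∉ K).card with hb
    have hba : b ≤ a := by
      refine Finset.card_le_card_of_injOn (fun g => g * t) (fun g hg => ?_)
        (fun x _ y _ h => mul_right_cancel h)
      simp only [Finset.coe_filter, Finset.mem_univ, true_and, Set.mem_ofPred_eq] at hg ⊢
      exact (hKt g).resolve_left hg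
    have hab : a + b = Fintype.card G := Finset.card_filter_add_card_filter_not _
    have hn := CharCore.classInner_irr_self χ
    rw [CharCore.classInner_def, inv_mul_eq_one₀ (Nat.cast_ne_zero.mpr Nat.card_pos.ne'),
      ← Finset.sum_filter_add_sum_filter_not _ (fun g : G => g ∈ K),
      Finset.sum_congr (s₁ := Finset.univ.filter fun g : G => g ∈ K) rfl (g := fun _ => (d : ℂ) * d) (fun g hg => by
        rw [hS χ hχ g (Finset.mem_filter.mp hg).2, hd, map_natCast]),
      Finset.sum_congr (s₁ := Finset.univ.filter fun g : G => g ∉ K) rfl (g := fun _ => (m : ℂ) * m) (fun g hg => by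
        rw [hval χ hχ g (Finset.mem_filter.mp hg).2, hm, map_intCast]),
      Finset.sum_const, Finset.sum_const, nsmul_eq_mul, nsmul_eq_mul, ← ha, ← hb,
      Nat.card_eq_fintype_card, ← hab] at hn
    have hZ : ((a + b : ℕ) : ℤ) = (a : ℤ) * ((d : ℤ) * d) + (b : ℤ) * (m * m) := by
      have h9 : (((a + b : ℕ) : ℤ) : ℂ) = (((a : ℤ) * ((d : ℤ) * d) + (b : ℤ) * (m * m) : ℤ) : ℂ) := by
        push_cast at hn ⊢
        exact hn
      exact_mod_cast h9
    push_cast at hZ
    have ha0 : 0 < a := Finset.card_pos.mpr ⟨1, by simp⟩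
    have hmm : 0 ≤ m * m := mul_self_nonneg m
    have hd1 : d = 1 := by
      by_contra hne
      have h2 : 4 ≤ (d : ℤ) * d := by
        have : (2 : ℤ) ≤ d := by omega
        nlinarith
      have h3 : (b : ℤ) ≤ a := by exact_mod_cast hba
      have h4 : (0 : ℤ) < a := by exact_mod_cast ha0
      nlinarith [mul_nonneg (Int.natCast_nonneg b) hmm]
    refine ⟨by rw [hd, hd1, Nat.cast_one], ?_⟩
    by_cases htK : t ∈ K
    · left; rw [hS χ hχ t htK, hd, hd1, Nat.cast_one]
    · have hb0 : 0 < b := Finset.card_pos.mpr ⟨t, by simp [htK]⟩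
      subst hd1
      have h5 : (b : ℤ) * (m * m) = (b : ℤ) * 1 := by push_cast at hZ; linarith
      have h6 := mul_left_cancel₀ (by exact_mod_cast hb0.ne' : (b : ℤ) ≠ 0) h5
      rcases mul_self_eq_one_iff.mp h6 with rfl | rfl
      · left; simpa using hm
      · right; simpa using hm
  refine ⟨?_, fun χ hχ => by rcases (hboth χ hχ).2 with h | h <;> simp [h]⟩
  refine (Finset.card_le_card_of_injOn (fun χ : IrrCharacter G => (χ : G → ℂ) t)
    (t := ({1, -1} : Finset ℂ)) ?_ ?_).trans Finset.card_le_two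
  · intro χ hχ
    rcases (hboth χ hχ).2 with h | h <;> simp [h]
  · intro χ hχ ψ hψ h
    apply Subtype.ext
    funext g
    by_cases hg : g ∈ K
    · rw [hS χ hχ g hg, hS ψ hψ g hg, (hboth χ hχ).1, (hboth ψ hψ).1]
    · rw [hval χ hχ g hg, hval ψ hψ g hg]; exact h

end Cfsg.Agent.H40.WeakClosure
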