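import Cfsg.Agent.H40.WeakClosure.Basic
import Cfsg.Agent.H40.WeakClosure.Chars
import Cfsg.Agent.S0215
import Cfsg.Prelude.Def_Local
import Mathlib.GroupTheory.SchurZassenhaus

/-!
The weak closure criterion: conjugates of `t` centralize `W` modulo the odd core.
-/

set_option autoImplicit false

open Cfsg
open scoped Pointwise

namespace Cfsg.Agent.H40.WeakClosure

open Subgroup

universe v

/-- The property proved by induction. -/
def Good (G : Type v) [Group G] : Prop :=
  ∀ (T : Sylow 2 G) (W : Subgroup G) (t : G), Data T W t →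
    ∀ g : G, ∀ u ∈ W, g * t * g⁻¹ * u * (g * t * g⁻¹)⁻¹ * u⁻¹ ∈ pPrimeCore 2 G

variable {G : Type v} [Group G] [Finite G] {T : Sylow 2 G} {W : Subgroup G} {t : G}

theorem card_quotient_lt {N : Subgroup G} (hN : N ≠ ⊥) : Nat.card (G ⧸ N) < Nat.card G := by
  rw [card_eq_card_quotient_mul_card_subgroup N]
  exact lt_mul_of_one_lt_right Nat.card_pos (N.one_lt_card_iff_ne_bot.mpr hN)

omit [Finite G] in
theorem isPGroup_zpowers {x : G} (hx : orderOf x = 2) : IsPGroup 2 (zpowers x) :=
  IsPGroup.of_card (n := 1) (by rw [Nat.card_zpowers, hx, pow_one])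

theorem Data.mul (h : Data T W t) {w : G} (hw : w ∈ W) : Data T W (w * t) where
  le := h.le
  central := h.central
  elem := h.elem
  closed := h.closed
  mem := mul_mem (h.le hw) h.mem
  sq := h.sq_mul hw
  notMem := fun h1 => h.notMem ((mul_mem_cancel_left hw).mp h1)
  hyp := fun v hv a ha u hu => by
    rw [← mul_assoc] at ha ⊢
    exact h.hyp _ (mul_mem hv hw) a ha u hu

/-- An involution normalizing `W` centralizes it. -/
theorem Data.commute_of_normalizer (h : Data T W t) {y : G} (hy : orderOf y = 2)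
    (hyW : y ∈ normalizer (W : Set G)) {u : G} (hu : u ∈ W) : Commute y u := by
  haveI : Fact (Nat.Prime 2) := ⟨Nat.prime_two⟩
  exact h.commute_of_isPGroup (P := zpowers y ⊔ W) (IsPGroup.to_sup_of_normal_right'
    (isPGroup_zpowers hy) (T.isPGroup'.to_le h.le) (zpowers_le.mpr hyW)) le_sup_right
    (mem_sup_left (mem_zpowers y)) hu

theorem Data.orderOf_t (h : Data T W t) : orderOf t = 2 := by
  have h1 := h.orderOf_mul (one_mem W)
  rwa [one_mul] at h1

theorem Data.orderOf_conj (h : Data T W t) {w : G} (hw : w ∈ W) (g : G) :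
    orderOf (g * (w * t) * g⁻¹) = 2 := by
  rw [Involution.orderOf_conj, h.orderOf_mul hw]

/-- The values of the principal block on `z` times a conjugate of `w t`, `z, w ∈ W`. -/
theorem section_lemma {M : Ideal AlgInt} (hM : IsPModular 2 M) (h : Data T W t)
    (hnc : ∀ c : G, orderOf c = 2 → c ∉ center G)
    (IH : ∀ (H : Type v) [Group H] [Finite H], Nat.card H < Nat.card G → Good H)
    {z w : G} (hz : z ∈ W) (hw : w ∈ W) (g : G) :
    ∃ w' ∈ W, ∀ χ : IrrCharacter G, χ ∈ principalBlock M G →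
      (χ : G → ℂ) (z * (g * (w * t) * g⁻¹)) = (χ : G → ℂ) (w' * t) := by
  haveI : Fact (Nat.Prime 2) := ⟨Nat.prime_two⟩
  haveI := Fintype.ofFinite G
  classical
  rcases eq_or_ne z 1 with rfl | hz1
  · exact ⟨w, hw, fun χ _ => by rw [one_mul, BlocksCore.irr_class χ]⟩
  have hzo : orderOf z = 2 := Involution.orderOf_eq_two_iff'.mpr ⟨h.elem z hz, hz1⟩
  set y₀ := g * (w * t) * g⁻¹ with hy₀
  have hy₀o : orderOf y₀ = 2 := h.orderOf_conj hw g
  have heven : Even (orderOf (z * y₀)) := Nat.not_odd_iff_even.mp fun hodd => by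
    obtain ⟨c, hc⟩ := isConj_iff.mp (Involution.isConj_of_odd hzo hy₀o hodd).symm
    exact h.conj_notMem hw (c * g) (by
      rw [show c * g * (w * t) * (c * g)⁻¹ = c * y₀ * c⁻¹ by rw [hy₀]; group, hc]; exact hz)
  obtain ⟨m, hm⟩ := heven
  have hm' : Even (orderOf (z * y₀)) := ⟨m, hm⟩
  have hhalf : orderOf (z * y₀) / 2 = m := by omega
  have hc0 : orderOf ((z * y₀) ^ m) = 2 := by
    rw [← hhalf]; exact Involution.orderOf_pow_half hm' (orderOf_pos _).ne'
  have hc0z : Commute ((z * y₀) ^ m) z := by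
    rw [← hhalf]
    exact Involution.commute_pow_half_left (h.elem z hz) (Involution.mul_self_of_orderOf hy₀o) hm'
  -- move the central involution of the dihedral group into `T`
  obtain ⟨l, hlz, hlT⟩ : ∃ l : G, Commute l z ∧ l * (z * y₀) ^ m * l⁻¹ ∈ T := by
    set C := centralizer ({z} : Set G) with hC
    have hTC : (T : Subgroup G) ≤ C := fun s hs =>
      mem_centralizer_singleton_iff.mpr (h.central s hs z hz).eq
    have hcC : (z * y₀) ^ m ∈ C := mem_centralizer_singleton_iff.mpr hc0z.eq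
    have hcC2 : IsPGroup 2 (zpowers (⟨_, hcC⟩ : C)) := isPGroup_zpowers (by rw [orderOf_mk, hc0])
    obtain ⟨Q, hQ⟩ := hcC2.exists_le_sylow
    obtain ⟨l, hl⟩ := MulAction.exists_smul_eq C Q (T.subtype hTC)
    refine ⟨l, (mem_centralizer_singleton_iff.mp l.2), ?_⟩
    have h3 : l * (⟨_, hcC⟩ : C) * l⁻¹ ∈ (l • Q : Sylow 2 C) := by
      change _ ∈ ((l • Q : Sylow 2 C) : Subgroup C)
      rw [Sylow.coe_subgroup_smul, ← MulAut.conj_apply, ← MulAut.smul_def]
      exact smul_mem_pointwise_smul _ _ _ (hQ (mem_zpowers _))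
    rw [hl] at h3
    exact h3
  set y := l * y₀ * l⁻¹ with hy
  set c := (z * y) ^ m with hc
  have hzy : z * y = l * (z * y₀) * l⁻¹ := by
    calc z * y = z * l * y₀ * l⁻¹ := by rw [hy]; group
      _ = l * (z * y₀) * l⁻¹ := by rw [← hlz.eq]; group
  have hyo : orderOf y = 2 := by rw [hy, Involution.orderOf_conj, hy₀o]
  have hy2 := Involution.mul_self_of_orderOf hyo
  have hzyo : orderOf (z * y) = orderOf (z * y₀) := by rw [hzy, Involution.orderOf_conj]
  have hceq : c = l * (z * y₀) ^ m * l⁻¹ := by rw [hc, hzy, conj_pow]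
  have hco : orderOf c = 2 := by rw [hceq, Involution.orderOf_conj, hc0]
  have hcT : c ∈ T := hceq ▸ hlT
  have hcz : Commute c z := by
    rw [hc, ← hhalf, ← hzyo]
    exact Involution.commute_pow_half_left (h.elem z hz) hy2 (hzyo ▸ hm')
  have hcy : Commute c y := by
    rw [hc, ← hhalf, ← hzyo]
    exact Involution.commute_pow_half_right (h.elem z hz) hy2 (hzyo ▸ hm')
  -- induction inside the centralizer of `c`
  set H := centralizer ({c} : Set G) with hH
  have hHne : H ≠ ⊤ := fun htop => hnc c hco (mem_center_iff.mpr fun x =>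
    mem_centralizer_singleton_iff.mp (htop ▸ mem_top x : x ∈ H))
  have hWH : W ≤ H := fun u hu => mem_centralizer_singleton_iff.mpr (h.central c hcT u hu).eq.symm
  have hyH : y ∈ H := mem_centralizer_singleton_iff.mpr hcy.eq.symm
  obtain ⟨R, hR⟩ := ((T.isPGroup'.to_le h.le).of_equiv
    (subgroupOfEquivOfLe hWH).symm).exists_le_sylow
  have hyH2 : IsPGroup 2 (zpowers (⟨y, hyH⟩ : H)) := isPGroup_zpowers (by rw [orderOf_mk, hyo])
  obtain ⟨Q, hQ⟩ := hyH2.exists_le_sylow
  obtain ⟨k, hk⟩ := MulAction.exists_smul_eq H Q R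
  have hy'R : k * ⟨y, hyH⟩ * k⁻¹ ∈ (R : Subgroup H) := by
    rw [← hk, Sylow.coe_subgroup_smul, ← MulAut.conj_apply, ← MulAut.smul_def]
    exact smul_mem_pointwise_smul _ _ _ (hQ (mem_zpowers _))
  have hcomm : ∀ u ∈ W, Commute (((k : G) * l * g) * (w * t) * ((k : G) * l * g)⁻¹) u := by
    intro u hu
    refine h.commute_of_isPGroup (P := (R : Subgroup H).map H.subtype) (R.isPGroup'.map _)
      (fun v hv => ⟨⟨v, hWH hv⟩, hR (mem_subgroupOf.mpr hv), rfl⟩) ⟨_, hy'R, ?_⟩ hu
    simp only [Subgroup.coe_subtype, Subgroup.coe_mul, InvMemClass.coe_inv, hy, hy₀]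
    group
  have hkH : (k : G) * l * g * (w * t) * ((k : G) * l * g)⁻¹ ∈ H := by
    have := (k * ⟨y, hyH⟩ * k⁻¹).2
    simp only [Subgroup.coe_mul, InvMemClass.coe_inv, hy, hy₀] at this
    convert this using 1
    group
  obtain ⟨T', hT'⟩ := (h.mul hw).of_conj hcomm
  obtain ⟨S, hS⟩ := hT'.restrict H hWH hkH
  have hIH := IH H (ZStar.card_lt_of_ne_top hHne) S _ _ hS k⁻¹ ⟨z, hWH hz⟩
    (mem_subgroupOf.mpr hz)
  set K := centralizerPPrimeCore 2 c with hK
  have hyz : (y * z) ^ (2 : ℤ) ∈ K := by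
    refine ⟨_, hIH, ?_⟩
    simp only [Subgroup.coe_subtype, Subgroup.coe_mul, InvMemClass.coe_inv]
    rw [show (k : G)⁻¹ * ((k : G) * l * g * (w * t) * ((k : G) * l * g)⁻¹) * (k : G)⁻¹⁻¹ = y by
      rw [hy, hy₀]; group, Involution.inv_of_orderOf hyo, Involution.inv_of_orderOf hzo, zpow_two]
    simp only [mul_assoc]
  have hr2 : (z * y) ^ (2 : ℤ) ∈ K := by
    have h1 := inv_mem hyz
    rwa [zpow_two, mul_inv_rev, mul_inv_rev, Involution.inv_of_orderOf hyo,
      Involution.inv_of_orderOf hzo, ← zpow_two] at h1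
  have hKcard : ¬ 2 ∣ Nat.card K := by
    rw [hK, centralizerPPrimeCore, card_map_of_injective (subtype_injective _)]
    exact Thompson.not_dvd_card_pPrimeCore
  -- `m` is odd
  have hmodd : Odd m := by
    by_contra he
    obtain ⟨j, hj⟩ := Nat.not_odd_iff_even.mp he
    have h1 : c ∈ K := by
      rw [hc, hj, ← zpow_natCast, show ((j + j : ℕ) : ℤ) = 2 * j by push_cast; ring, zpow_mul]
      exact zpow_mem hr2 _
    exact hKcard (hco ▸ Subgroup.orderOf_dvd_natCard K h1)
  obtain ⟨j, hj⟩ := hmodd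
  have hdata : ZStar.SectionData 2 c K := by
    refine ⟨⟨1, by rw [pow_one, hco]⟩, map_subtype_le _, ?_, hKcard⟩
    intro x hx
    exact le_normalizer_map H.subtype ⟨⟨x, hx⟩, by rw [normalizer_eq_top]; exact mem_top _, rfl⟩
  have hw' : c⁻¹ * (z * y) ∈ K := by
    have h1 : c⁻¹ * (z * y) = ((z * y) ^ (2 : ℤ)) ^ (-(j : ℤ)) := by
      rw [← zpow_mul, hc, hj, ← zpow_natCast, ← zpow_neg, ← zpow_add_one]
      congr 1
      push_cast
      ring
    rw [h1]
    exact zpow_mem hr2 _
  -- `z c` is conjugate to `w t` under the normalizer of `W`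
  have hzc : (z * y) ^ (-(j : ℤ)) * y * ((z * y) ^ (-(j : ℤ)))⁻¹ = z * c := by
    have h1 : y * (z * y) * y⁻¹ = (z * y)⁻¹ := by
      rw [eq_inv_iff_mul_eq_one, Involution.inv_of_orderOf hyo]
      calc y * (z * y) * y * (z * y) = y * z * (y * y) * z * y := by group
        _ = y * (z * z) * y := by rw [hy2]; group
        _ = 1 := by rw [h.elem z hz, mul_one, hy2]
    have h2 := Involution.mul_zpow_of_inverts h1 (j : ℤ)
    calc (z * y) ^ (-(j : ℤ)) * y * ((z * y) ^ (-(j : ℤ)))⁻¹
        = (z * y) ^ (-(j : ℤ)) * (y * (z * y) ^ (j : ℤ)) := by group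
      _ = (z * y) ^ (-(j : ℤ)) * ((z * y) ^ (-(j : ℤ)) * y) := by rw [h2]
      _ = (z * y) ^ (-(m : ℤ)) * (z * y * y⁻¹⁻¹) := by
          rw [← mul_assoc, ← zpow_add, inv_inv, hj]
          push_cast
          rw [neg_add, zpow_add _ _ (-(1 : ℤ)), zpow_neg_one, mul_assoc ((z * y) ^ (-(2 * (j : ℤ)))),
            ← mul_assoc (z * y)⁻¹, inv_mul_cancel, one_mul]
          congr 2
          ring
      _ = c⁻¹ * z := by
          rw [zpow_neg, zpow_natCast, ← hc, inv_inv, mul_assoc z, hy2, mul_one]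
      _ = z * c := by rw [Involution.inv_of_orderOf hco, hcz.eq]
  set q := (z * y) ^ (-(j : ℤ)) * l * g with hq
  have hqeq : q * (w * t) * q⁻¹ = z * c := by
    calc q * (w * t) * q⁻¹ = (z * y) ^ (-(j : ℤ)) * (l * (g * (w * t) * g⁻¹) * l⁻¹) *
          ((z * y) ^ (-(j : ℤ)))⁻¹ := by rw [hq]; group
      _ = z * c := by rw [← hy₀, ← hy, hzc]
  obtain ⟨n, hn, he⟩ := h.exists_normalizer_conj hw (g := q) fun u hu => by
    rw [hqeq]; exact h.central _ (mul_mem (h.le hz) hcT) u hu
  rw [hqeq] at he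
  refine ⟨n⁻¹ * z⁻¹ * n * w, mul_mem ((mem_normalizer_iff.mp hn _).mpr (by
    rw [show n * (n⁻¹ * z⁻¹ * n) * n⁻¹ = z⁻¹ by group]; exact inv_mem hz)) hw, fun χ hχ => ?_⟩
  have h1 : (χ : G → ℂ) (z * y₀) = (χ : G → ℂ) (z * y) := by
    rw [hzy, BlocksCore.irr_class χ]
  rw [h1, show z * y = c * (c⁻¹ * (z * y)) by rw [mul_inv_cancel_left],
    ZStar.apply_mul_eq hM hdata hχ hw']
  rw [show c = n * (n⁻¹ * z⁻¹ * n * w * t) * n⁻¹ by
    calc c = z⁻¹ * (z * c) := by rw [inv_mul_cancel_left]
      _ = z⁻¹ * (n * (w * t) * n⁻¹) := by rw [he]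
      _ = _ := by group]
  exact BlocksCore.irr_class χ _ _

/-- If the normal closure of `W` and `t` generate a group without central involutions and with
trivial odd core, a contradiction follows. -/
theorem false_of_generated (h : Data T W t) (hO : pPrimeCore 2 G = ⊥)
    (hnc : ∀ c : G, orderOf c = 2 → c ∉ center G)
    (hKt : ∀ g : G, g ∈ normalClosure (W : Set G) ∨ g * t ∈ normalClosure (W : Set G))
    (IH : ∀ (H : Type v) [Group H] [Finite H], Nat.card H < Nat.card G → Good H) : False := by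
  haveI : Fact (Nat.Prime 2) := ⟨Nat.prime_two⟩
  haveI := Fintype.ofFinite G
  classical
  haveI := Fintype.ofFinite W
  obtain ⟨M, hM⟩ := Blocks88.exists_isPModular Nat.prime_two
  haveI := BlocksCore.isPrime hM
  haveI := BlocksCore.finite_irr (G := G)
  haveI := Fintype.ofFinite (IrrCharacter G)
  let one : IrrCharacter G := ⟨fun _ => 1, CharCore.isIrrCharacter_one⟩
  have hB : IsPBlock M (principalBlock M G) := ⟨one, rfl⟩
  set Bf := (principalBlock M G).toFinset with hBf
  have hone : ∃ χ ∈ Bf, ∀ g : G, (χ : G → ℂ) g = 1 :=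
    ⟨one, Set.mem_toFinset.mpr (BlocksCore.sameBlock_refl _), fun _ => rfl⟩
  have hN := fun w : W => exists_blockNorm hM hB Bf (fun χ => Set.mem_toFinset) hone
    (v := (w : G) * t) (h.sq_mul w.2)
  choose α hα hαpos hαdvd using hN
  let R : W → Finset W := fun w =>
    Finset.univ.filter fun u : W => IsConj ((w : G) * t) ((u : G) * t)
  let ν : W → ℕ := fun w => (R w).card * α w
  have hRpos : ∀ w, 0 < (R w).card := fun w =>
    Finset.card_pos.mpr ⟨w, Finset.mem_filter.mpr ⟨Finset.mem_univ _, IsConj.refl _⟩⟩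
  have hνpos : ∀ w, 0 < ν w := fun w => Nat.mul_pos (hRpos w) (hαpos w)
  -- orthogonality
  have horth : ∀ w w' : W, ∑ χ ∈ Bf, (χ : G → ℂ) ((w : G) * t) * (χ : G → ℂ) ((w' : G) * t) =
      if IsConj ((w : G) * t) ((w' : G) * t) then (α w : ℂ) else 0 := by
    intro w w'
    split_ifs with hc
    · rw [hα]
      refine Finset.sum_congr rfl fun χ _ => ?_
      rw [ZStar.class_apply_of_isConj (BlocksCore.irr_class χ) hc]
      ring
    · have hp : ∀ v : W, IsPPart 2 ((v : G) * t) ((v : G) * t) := fun v =>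
        ⟨1, mul_one _, Commute.one_right _, ⟨1, by rw [pow_one, h.orderOf_mul v.2]⟩,
          by rw [orderOf_one]; decide⟩
      have h1 := BlocksCore.blockOrth_sections hM hB (hp w) (hp w') hc
      rw [Involution.inv_of_orderOf (h.orderOf_mul w'.2), finsum_mem_eq_toFinset_sum] at h1
      exact h1
  let a : IrrCharacter G → ℂ := fun χ => ∑ w : W, (χ : G → ℂ) ((w : G) * t) / (ν w : ℂ)
  have hsum : ∀ w' : W, ∑ χ ∈ Bf, a χ * (χ : G → ℂ) ((w' : G) * t) = 1 := by
    intro w'
    simp only [a, Finset.sum_mul]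
    rw [Finset.sum_comm]
    simp only [div_mul_eq_mul_div, ← Finset.sum_div, horth]
    have h1 : ∀ w : W, (if IsConj ((w : G) * t) ((w' : G) * t) then (α w : ℂ) else 0) / (ν w : ℂ) =
        if w ∈ R w' then (1 : ℂ) / ((R w').card : ℂ) else 0 := by
      intro w
      by_cases hc : IsConj ((w : G) * t) ((w' : G) * t)
      · have hR : R w = R w' := by
          ext u
          simp only [R, Finset.mem_filter, Finset.mem_univ, true_and]
          exact ⟨fun h' => hc.symm.trans h', fun h' => hc.trans h'⟩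
        have hwR : w ∈ R w' := Finset.mem_filter.mpr ⟨Finset.mem_univ _, hc.symm⟩
        rw [if_pos hc, if_pos hwR]
        simp only [ν, hR, Nat.cast_mul]
        have h2 : ((α w : ℕ) : ℂ) ≠ 0 := Nat.cast_ne_zero.mpr (hαpos w).ne'
        field_simp
      · have hwR : w ∉ R w' := fun h' => hc (Finset.mem_filter.mp h').2.symm
        rw [if_neg hc, if_neg hwR, zero_div]
    rw [Finset.sum_congr rfl fun w _ => h1 w, Finset.sum_ite_mem, Finset.univ_inter,
      Finset.sum_const, nsmul_eq_mul, mul_one_div,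
      div_self (Nat.cast_ne_zero.mpr (hRpos w').ne')]
  -- characters trivial on `W`
  set E := Bf.filter fun χ : IrrCharacter G => ∀ u ∈ W, (χ : G → ℂ) u = (χ : G → ℂ) 1 with hE
  have hEt : ∀ χ ∈ E, ∀ w : W, (χ : G → ℂ) ((w : G) * t) = (χ : G → ℂ) t := by
    intro χ hχ w
    rw [← (h.central t h.mem w w.2).eq]
    exact CharCore.IsCharacter.apply_mul_of_mem_kernel (CharCore.irr_isCharacter χ)
      ((Finset.mem_filter.mp hχ).2 w w.2) t
  have hEK : ∀ χ ∈ E, ∀ k ∈ normalClosure (W : Set G), (χ : G → ℂ) k = (χ : G → ℂ) 1 :=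
    fun χ hχ k hk => (CharCore.mem_charKernel (CharCore.irr_isCharacter χ) k).mp
      (normalClosure_le_normal (N := CharCore.charKernel (CharCore.irr_isCharacter χ))
        (fun u hu => (Finset.mem_filter.mp hχ).2 u hu) hk)
  obtain ⟨hEcard, hEsq⟩ := small_quotient_chars (normalClosure (W : Set G)) h.sq hKt E hEK
  have hπ : ∀ z w : W, ∀ g : G, ∃ w' : W, ∀ χ : IrrCharacter G, χ ∈ principalBlock M G →
      (χ : G → ℂ) ((z : G) * (g⁻¹ * ((w : G) * t) * g)) = (χ : G → ℂ) ((w' : G) * t) := by
    intro z w g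
    obtain ⟨w', hw', h1⟩ := section_lemma hM h hnc IH z.2 w.2 g⁻¹
    exact ⟨⟨w', hw'⟩, fun χ hχ => by have := h1 χ hχ; rwa [inv_inv] at this⟩
  choose π hπ' using hπ
  -- the constant coming from `E`
  set β : ℂ := 1 - (E.card : ℂ) * ∑ w : W, (1 : ℂ) / (ν w : ℂ) with hβ
  have hEsum : ∀ w' : W, ∑ χ ∈ E, a χ * (χ : G → ℂ) ((w' : G) * t) =
      (E.card : ℂ) * ∑ w : W, (1 : ℂ) / (ν w : ℂ) := by
    intro w'
    rw [← nsmul_eq_mul, ← Finset.sum_const]
    refine Finset.sum_congr rfl fun χ hχ => ?_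
    simp only [a, Finset.sum_mul]
    refine Finset.sum_congr rfl fun w _ => ?_
    rw [hEt χ hχ, hEt χ hχ, div_mul_eq_mul_div, ← sq, hEsq χ hχ]
  have hβ0 : β = 0 := by
    have helim := elim (ι := W) (κ := {χ : IrrCharacter G // χ ∈ Bf}) (J := W) (Γ := G)
      (fun z g w => π z w g) (fun χ w => (χ.1 : G → ℂ) ((w : G) * t))
      (fun χ z => (χ.1 : G → ℂ) z / (χ.1 : G → ℂ) 1) ?_
      ((Bf.filter fun χ : IrrCharacter G => ¬ ∀ u ∈ W, (χ : G → ℂ) u = (χ : G → ℂ) 1).subtype _)
      ?_ (fun χ => a χ.1) β ?_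
    · exact helim
    · intro χ z w
      rw [Finset.sum_congr rfl fun g _ => (hπ' z w g χ.1 (Set.mem_toFinset.mp χ.2)).symm]
      have h1 := BlocksCore.sum_char_conj_mul χ.1 ((w : G) * t) (z : G)
      rw [Nat.card_eq_fintype_card] at h1
      rw [Finset.sum_congr rfl fun g _ => show (χ.1 : G → ℂ) ((z : G) * (g⁻¹ * ((w : G) * t) * g)) =
        (χ.1 : G → ℂ) (g⁻¹ * ((w : G) * t) * g * (z : G)) from
        ZStar.class_apply_of_isConj (BlocksCore.irr_class χ.1)
          (isConj_iff.mpr ⟨(z : G)⁻¹, by group⟩), h1]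
      ring
    · intro χ hχ
      simp only [Finset.mem_subtype, Finset.mem_filter, not_forall] at hχ
      obtain ⟨-, u, hu, hne⟩ := hχ
      refine ⟨⟨u, hu⟩, fun h1 => hne ?_⟩
      rwa [div_eq_one_iff_eq (CharCore.irr_apply_one_ne_zero χ.1)] at h1
    · intro w'
      have h1 := hsum w'
      rw [← Finset.sum_filter_add_sum_filter_not Bf
        (fun χ : IrrCharacter G => ∀ u ∈ W, (χ : G → ℂ) u = (χ : G → ℂ) 1), ← hE, hEsum] at h1
      rw [Finset.sum_subtype_of_mem (fun χ : IrrCharacter G => a χ * (χ : G → ℂ) ((w' : G) * t))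
        (fun χ hχ => (Finset.mem_filter.mp hχ).1), hβ]
      linear_combination h1
  have hkey : (1 : ℝ) = (E.card : ℝ) * ∑ w : W, (1 : ℝ) / (ν w : ℝ) := by
    apply Complex.ofReal_injective
    push_cast
    exact sub_eq_zero.mp hβ0
  -- the 2-part of the centralizers
  have hpair : ∀ w : W, 2 * Nat.card W ∣ α w := by
    intro w
    set P := zpowers ((w : G) * t) ⊔ W with hP
    have hPT : P ≤ (T : Subgroup G) := sup_le (zpowers_le.mpr (mul_mem (h.le w.2) h.mem)) h.le
    have hPC : P ≤ centralizer ({(w : G) * t} : Set G) := sup_le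
      (zpowers_le.mpr (mem_centralizer_singleton_iff.mpr rfl))
      fun u hu => mem_centralizer_singleton_iff.mpr (h.commute_mul w.2 hu).eq.symm
    refine dvd_trans ?_ (hαdvd w P hPC (T.isPGroup'.to_le hPT))
    obtain ⟨k, hk⟩ := card_dvd_of_le (le_sup_right : W ≤ P)
    have hk1 : k ≠ 1 := fun h1 => by
      rw [h1, mul_one] at hk
      have h2 := eq_of_le_of_card_ge (le_sup_right : W ≤ P) hk.le
      have h3 : (w : G) * t ∈ P := mem_sup_left (mem_zpowers _)
      rw [hP, ← h2] at h3
      exact h.notMem ((mul_mem_cancel_left w.2).mp h3)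
    obtain ⟨e, he⟩ := IsPGroup.iff_card.mp (T.isPGroup'.to_le hPT)
    obtain ⟨i, -, hi⟩ := (Nat.dvd_prime_pow Nat.prime_two).mp (he ▸ ⟨Nat.card W, by rw [hk, mul_comm]⟩ : k ∣ 2 ^ e)
    obtain ⟨i', rfl⟩ : ∃ i', i = i' + 1 := ⟨i - 1, by
      rcases i with _ | i
      · simp at hi; exact absurd hi hk1
      · rfl⟩
    exact ⟨2 ^ i', by rw [hk, hi, pow_succ]; ring⟩
  have hν : ∀ w : W, 2 * Nat.card W ≤ ν w := fun w =>
    le_trans (Nat.le_of_dvd (hαpos w) (hpair w)) (Nat.le_mul_of_pos_left _ (hRpos w))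
  have hall : ∀ w : W, ν w = 2 * Nat.card W := by
    by_contra hne
    push Not at hne
    obtain ⟨w₀, hw₀⟩ := hne
    have hWpos : (0 : ℝ) < (Nat.card W : ℝ) := Nat.cast_pos.mpr Nat.card_pos
    have h1 : ∑ w : W, (1 : ℝ) / (ν w : ℝ) < ∑ _w : W, (1 : ℝ) / (2 * Nat.card W) := by
      refine Finset.sum_lt_sum (fun w _ => ?_) ⟨w₀, Finset.mem_univ _, ?_⟩
      · exact one_div_le_one_div_of_le (by positivity) (by exact_mod_cast hν w)
      · refine one_div_lt_one_div_of_lt (by positivity) ?_
        exact_mod_cast lt_of_le_of_ne (hν w₀) (Ne.symm hw₀)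
    rw [Finset.sum_const, Finset.card_univ, ← Nat.card_eq_fintype_card, nsmul_eq_mul] at h1
    have h2 : (E.card : ℝ) ≤ 2 := by exact_mod_cast hEcard
    have h3 : (Nat.card W : ℝ) * (1 / (2 * (Nat.card W : ℝ))) = 1 / 2 := by field_simp
    have h4 : 0 ≤ ∑ w : W, (1 : ℝ) / (ν w : ℝ) := Finset.sum_nonneg fun w _ =>
      div_nonneg zero_le_one (Nat.cast_nonneg _)
    nlinarith [mul_le_mul_of_nonneg_right h2 h4]
  have hconj : ∀ u v : W, IsConj ((u : G) * t) ((v : G) * t) → u = v := by
    intro u v huv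
    by_contra hne
    have h1 : 2 ≤ (R u).card :=
      Finset.one_lt_card.mpr ⟨u, Finset.mem_filter.mpr ⟨Finset.mem_univ _, IsConj.refl _⟩,
        v, Finset.mem_filter.mpr ⟨Finset.mem_univ _, huv⟩, hne⟩
    have h2 := Nat.mul_le_mul h1 (Nat.le_of_dvd (hαpos u) (hpair u))
    have h3 := hall u
    simp only [ν] at h3
    have : 0 < Nat.card W := Nat.card_pos
    omega
  have hiso : ∀ g : G, g * t * g⁻¹ ∈ T → g * t * g⁻¹ = t := by
    set S := (T : Subgroup G) ⊓ centralizer ({t} : Set G) with hS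
    set P := zpowers t ⊔ W with hP
    have hPS : P ≤ S := sup_le (zpowers_le.mpr ⟨h.mem, mem_centralizer_singleton_iff.mpr rfl⟩)
      fun u hu => ⟨h.le hu, mem_centralizer_singleton_iff.mpr (h.central t h.mem u hu).eq.symm⟩
    have hPmem : ∀ x ∈ P, x ∈ W ∨ x * t ∈ W := by
      intro x hx
      rw [hP, sup_comm, ← SetLike.mem_coe, coe_mul_of_right_le_normalizer_left] at hx
      · obtain ⟨u, hu, b, hb, rfl⟩ := Set.mem_mul.mp hx
        obtain ⟨i, rfl⟩ := mem_zpowers_iff.mp hb
        rcases Int.even_or_odd i with ⟨j, rfl⟩ | ⟨j, rfl⟩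
        · left
          rw [← two_mul, zpow_mul, zpow_two, h.sq, one_zpow, mul_one]; exact hu
        · right
          rw [zpow_add_one, zpow_mul, zpow_two, h.sq, one_zpow, one_mul, mul_assoc, h.sq, mul_one]
          exact hu
      · refine zpowers_le.mpr (mem_normalizer_iff.mpr fun u => ?_)
        rw [Involution.inv_of_orderOf h.orderOf_t]
        constructor <;> intro hu
        · rw [(h.central t h.mem u hu).eq, mul_assoc, h.sq, mul_one]; exact hu
        · have := (h.central t h.mem _ hu).eq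
          have h1 : t * (t * u * t) * t = t * u * t := by
            rw [this, mul_assoc, h.sq, mul_one]
          rw [show t * (t * u * t) * t = t * t * u * (t * t) by group, h.sq, one_mul, mul_one] at h1
          rwa [h1]
    have hPsub : S ≤ P := by
      have h1 := hαdvd 1 S (by rw [OneMemClass.coe_one, one_mul]; exact inf_le_right)
        (T.isPGroup'.to_le inf_le_left)
      have h2 : α 1 = 2 * Nat.card W := by
        have h3 := hall 1
        have h4 := Nat.le_of_dvd (hαpos 1) (hpair 1)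
        have h5 := Nat.le_mul_of_pos_left (α 1) (hRpos 1)
        simp only [ν] at h3
        omega
      have h3 : 2 * Nat.card W ≤ Nat.card P := by
        obtain ⟨k, hk⟩ := card_dvd_of_le (le_sup_right : W ≤ P)
        have hk0 : 0 < k := Nat.pos_of_ne_zero fun h0 => by
          rw [h0, mul_zero] at hk; exact Nat.card_pos.ne' hk
        have hk1 : k ≠ 1 := fun h1' => by
          rw [h1', mul_one] at hk
          exact h.notMem ((eq_of_le_of_card_ge (le_sup_right : W ≤ P) hk.le).symm ▸
            mem_sup_left (mem_zpowers t) : t ∈ W)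
        rw [hk, mul_comm]
        exact Nat.mul_le_mul_left _ (by omega)
      have h4 := Nat.le_of_dvd (hαpos 1) h1
      exact (eq_of_le_of_card_ge hPS (by omega)).ge
    have hfix : ∀ x ∈ S, IsConj t x → x = t := by
      intro x hx hc
      obtain ⟨g, hg⟩ := isConj_iff.mp hc
      rcases hPmem x (hPsub hx) with h1 | h1
      · exact absurd h1 (hg ▸ (by simpa using h.conj_notMem (one_mem W) g))
      · have h2 := hconj 1 ⟨x * t, h1⟩ (by simpa [mul_assoc, h.sq] using hc)
        have h3 : x * t = 1 := congrArg Subtype.val h2.symm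
        rw [mul_eq_one_iff_eq_inv.mp h3,
          Involution.inv_of_orderOf h.orderOf_t]
    have hST : (T : Subgroup G) ≤ S := by
      haveI := T.isPGroup'.isNilpotent
      have htop : S.subgroupOf (T : Subgroup G) = ⊤ := by
        by_contra hne
        have hlt := Group.normalizerCondition_of_isNilpotent _ (lt_top_iff_ne_top.mpr hne)
        obtain ⟨s, hs, hsn⟩ := SetLike.exists_of_lt hlt
        refine hsn (mem_subgroupOf.mpr ⟨s.2, mem_centralizer_singleton_iff.mpr ?_⟩)
        have h1 : s * ⟨t, h.mem⟩ * s⁻¹ ∈ S.subgroupOf (T : Subgroup G) :=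
          (mem_normalizer_iff.mp hs _).mp
            (mem_subgroupOf.mpr ⟨h.mem, mem_centralizer_singleton_iff.mpr rfl⟩)
        exact mul_inv_eq_iff_eq_mul.mp (hfix _ h1 (isConj_iff.mpr ⟨s, rfl⟩))
      exact subgroupOf_eq_top.mp htop
    exact fun g hg => hfix _ (hST hg) (isConj_iff.mpr ⟨g, rfl⟩)
  obtain ⟨N, hN, hNodd, hNc⟩ := S0215.result T t h.orderOf_t h.mem
    hiso
  have hNbot : N ≤ ⊥ := hO ▸ Thompson.le_pPrimeCore hN (Nat.coprime_two_right.mpr hNodd)
  refine hnc t h.orderOf_t (mem_center_iff.mpr fun g => ?_)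
  have h1 := mem_bot.mp (hNbot (hNc g))
  rw [mul_inv_eq_one] at h1
  exact (mul_inv_eq_iff_eq_mul.mp h1).symm

theorem good_aux : ∀ (n : ℕ) (G : Type v) [Group G] [Finite G], Nat.card G = n → Good G := by
  intro n
  induction n using Nat.strong_induction_on with
  | _ n ih =>
    intro G _ _ hn
    haveI : Fact (Nat.Prime 2) := ⟨Nat.prime_two⟩
    have IH : ∀ (H : Type v) [Group H] [Finite H], Nat.card H < Nat.card G → Good H :=
      fun H _ _ hlt => ih _ (hn ▸ hlt) H rfl
    intro T W t h g u hu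
    have hto : orderOf t = 2 := h.orderOf_t
    have hyo : orderOf (g * t * g⁻¹) = 2 := by rw [Involution.orderOf_conj, hto]
    by_cases hO : pPrimeCore 2 G = ⊥
    swap
    · -- reduce modulo the core
      have hcop : (Nat.card (pPrimeCore 2 G)).Coprime 2 := Thompson.card_pPrimeCore_coprime
      have htN : t ∉ W ⊔ pPrimeCore 2 G := by
        intro ht
        rw [← SetLike.mem_coe, mul_normal] at ht
        obtain ⟨w, hw, o, ho, he⟩ := Set.mem_mul.mp ht
        have ho' : o = w⁻¹ * t := by rw [← he]; group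
        have h1 : orderOf o ∣ 2 := orderOf_dvd_of_pow_eq_one (by
          rw [pow_two, ho']; exact h.sq_mul (inv_mem hw))
        have h2 : orderOf o = 1 :=
          Nat.eq_one_of_dvd_coprimes hcop (Subgroup.orderOf_dvd_natCard _ ho) h1
        rw [orderOf_eq_one_iff] at h2
        rw [h2, mul_one] at he
        exact h.notMem (he ▸ hw)
      obtain ⟨T', hT'⟩ := h.quotient (pPrimeCore 2 G) htN fun w hw a ha => by
        have h2 : a * (w * t) * a⁻¹ * (w * t) ∈ pPrimeCore 2 G := by
          rwa [Involution.inv_of_orderOf (h.orderOf_mul hw)] at ha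
        obtain ⟨k, hk⟩ := Involution.exists_conj_of_odd (x := a * (w * t) * a⁻¹) (y := w * t)
          (Involution.mul_self_of_orderOf (h.orderOf_conj hw a)) (h.sq_mul hw)
          (Nat.coprime_two_right.mp (hcop.coprime_dvd_left (Subgroup.orderOf_dvd_natCard _ h2)))
        refine ⟨_, zpow_mem h2 k, fun c => ?_⟩
        rw [show ∀ n : G, n * a * (w * t) * (n * a)⁻¹ = n * (a * (w * t) * a⁻¹) * n⁻¹ from
          fun n => by group, hk]
      have h1 := IH _ (card_quotient_lt hO) T' _ _ hT' (QuotientGroup.mk' _ g)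
        (QuotientGroup.mk' _ u) ⟨u, hu, rfl⟩
      rw [Thompson.pPrimeCore_quotient_pPrimeCore, mem_bot] at h1
      rw [← QuotientGroup.eq_one_iff]
      simpa only [QuotientGroup.mk'_apply, QuotientGroup.mk_mul, QuotientGroup.mk_inv] using h1
    rw [hO, mem_bot]
    have hfin : g * t * g⁻¹ ∈ normalizer (W : Set G) →
        g * t * g⁻¹ * u * (g * t * g⁻¹)⁻¹ * u⁻¹ = 1 := fun hy => by
      rw [(h.commute_of_normalizer hyo hy hu).eq]; group
    by_cases hc : ∃ c : G, orderOf c = 2 ∧ c ∈ center G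
    · obtain ⟨c, hco, hcc⟩ := hc
      apply hfin
      by_cases hcW : ∃ w ∈ W, c = w * t
      · obtain ⟨w, hw, rfl⟩ := hcW
        have hall : ∀ a : G, a ∈ centralizer ({w * t} : Set G) := fun a =>
          mem_centralizer_singleton_iff.mpr (mem_center_iff.mp hcc a)
        haveI : W.Normal := ⟨fun v hv a => by
          obtain ⟨D, hDo, -, hDn, v', hv', hD⟩ :=
            h.hyp w hw a (mem_center_iff.mp hcc a) v hv
          have hDb : D ≤ ⊥ := hO ▸ Thompson.le_pPrimeCore
            ⟨fun d hd b => (mem_normalizer_iff.mp (hDn (hall b)) d).mp hd⟩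
            (Nat.coprime_two_right.mpr hDo)
          rwa [← inv_mul_eq_one.mp (mem_bot.mp (hDb hD))]⟩
        rw [normalizer_eq_top]
        exact mem_top _
      have hcTmem : c ∈ T := by
        obtain ⟨Q, hQ⟩ := (isPGroup_zpowers hco).exists_le_sylow
        obtain ⟨d, hd⟩ := MulAction.exists_smul_eq G Q T
        rw [← hd, mem_conj_iff, mul_assoc, ← mem_center_iff.mp hcc d, inv_mul_cancel_left]
        exact hQ (mem_zpowers c)
      haveI : (zpowers c).Normal := ⟨fun x hx a => by
        obtain ⟨i, rfl⟩ := mem_zpowers_iff.mp hx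
        rw [(Commute.zpow_right (mem_center_iff.mp hcc a) i).eq, mul_inv_cancel_right]
        exact zpow_mem (mem_zpowers c) i⟩
      have hpow : ∀ x ∈ zpowers c, x = 1 ∨ x = c := by
        intro x hx
        obtain ⟨i, rfl⟩ := mem_zpowers_iff.mp hx
        rcases Int.even_or_odd i with ⟨j, rfl⟩ | ⟨j, rfl⟩
        · left
          rw [← two_mul, zpow_mul, zpow_two, Involution.mul_self_of_orderOf hco, one_zpow]
        · right
          rw [zpow_add_one, zpow_mul, zpow_two, Involution.mul_self_of_orderOf hco, one_zpow,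
            one_mul]
      have htN : t ∉ W ⊔ zpowers c := by
        intro ht
        rw [← SetLike.mem_coe, mul_normal] at ht
        obtain ⟨w, hw, o, ho, he⟩ := Set.mem_mul.mp ht
        rcases hpow o ho with rfl | rfl
        · rw [mul_one] at he
          exact h.notMem (he ▸ hw)
        · exact hcW ⟨w⁻¹, inv_mem hw, by rw [← he]; group⟩
      obtain ⟨T', hT'⟩ := h.quotient (zpowers c) htN fun w hw a ha => by
        refine ⟨1, one_mem _, fun b => ?_⟩
        rw [one_mul]
        have hcb : Commute b c := mem_center_iff.mp hcc b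
        rcases hpow _ ha with he | he
        · rw [mul_inv_eq_one.mp he]
        · rw [mul_inv_eq_iff_eq_mul.mp he]
          refine ⟨fun hb => hcb.mul_right hb, fun hb => ?_⟩
          have := hcb.mul_right hb
          rwa [← mul_assoc, Involution.mul_self_of_orderOf hco, one_mul] at this
      have h1 := IH _ (card_quotient_lt (by
        rw [Ne, zpowers_eq_bot]; exact Involution.ne_one_of_orderOf hco)) T' _ _ hT'
      have hcore : (pPrimeCore 2 (G ⧸ zpowers c)).comap (QuotientGroup.mk' (zpowers c)) =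
          zpowers c := by
        set P := (pPrimeCore 2 (G ⧸ zpowers c)).comap (QuotientGroup.mk' (zpowers c)) with hP
        have hcP : zpowers c ≤ P := fun x hx => by
          rw [hP, mem_comap, QuotientGroup.mk'_apply, (QuotientGroup.eq_one_iff x).mpr hx]
          exact one_mem _
        have hcard : Nat.card P = Nat.card (pPrimeCore 2 (G ⧸ zpowers c)) * Nat.card (zpowers c) :=
          Thompson.card_comap_quotient _ _
        set m := Nat.card (pPrimeCore 2 (G ⧸ zpowers c)) with hmdef
        have hmodd : Odd m := Nat.coprime_two_right.mp Thompson.card_pPrimeCore_coprime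
        rw [Nat.card_zpowers, hco] at hcard
        have hidx : ((zpowers c).subgroupOf P).index = m := by
          have h2 := ((zpowers c).subgroupOf P).card_mul_index
          rw [Nat.card_congr (subgroupOfEquivOfLe hcP).toEquiv, Nat.card_zpowers, hco, hcard,
            mul_comm m 2] at h2
          exact Nat.eq_of_mul_eq_mul_left two_pos h2
        obtain ⟨K, hK⟩ := exists_right_complement'_of_coprime
          (N := (zpowers c).subgroupOf P) (by
            rw [hidx, Nat.card_congr (subgroupOfEquivOfLe hcP).toEquiv, Nat.card_zpowers, hco]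
            exact Nat.coprime_two_left.mpr hmodd)
        have hKcard : Nat.card K = m := by
          have h2 := hK.card_mul_card
          rw [Nat.card_congr (subgroupOfEquivOfLe hcP).toEquiv, Nat.card_zpowers, hco, hcard,
            mul_comm m 2] at h2
          exact Nat.eq_of_mul_eq_mul_left two_pos h2
        have hKm : ∀ x : P, x ∈ K ↔ (x : G) ^ m = 1 := by
          intro x
          constructor
          · intro hx
            rw [← SubmonoidClass.coe_pow, ← hKcard]
            have : (⟨x, hx⟩ : K) ^ Nat.card K = 1 := pow_card_eq_one'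
            exact congrArg (fun y : K => ((y : P) : G)) this
          · intro hx
            obtain ⟨⟨⟨a, ha⟩, ⟨b, hb⟩⟩, rfl⟩ := hK.2 x
            dsimp only at hx ⊢
            rcases hpow _ (mem_subgroupOf.mp ha) with h2 | h2
            · rw [show a = 1 from Subtype.ext h2, one_mul]; exact hb
            · exfalso
              have hbm : (b : G) ^ m = 1 := by
                rw [← SubmonoidClass.coe_pow, ← hKcard]
                have : (⟨b, hb⟩ : K) ^ Nat.card K = 1 := pow_card_eq_one'
                exact congrArg (fun y : K => ((y : P) : G)) this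
              rw [Subgroup.coe_mul, h2, Commute.mul_pow (mem_center_iff.mp hcc (b : G) : _).symm,
                hbm, mul_one] at hx
              have h3 : orderOf c ∣ m := orderOf_dvd_of_pow_eq_one hx
              rw [hco] at h3
              exact Nat.not_even_iff_odd.mpr hmodd (even_iff_two_dvd.mpr h3)
        haveI : (K.map P.subtype).Normal := ⟨fun x hx a => by
          obtain ⟨b, hb, rfl⟩ := hx
          have hmem : a * (b : G) * a⁻¹ ∈ P := Normal.conj_mem inferInstance _ b.2 a
          refine ⟨⟨_, hmem⟩, (hKm _).mpr ?_, rfl⟩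
          show (a * (b : G) * a⁻¹) ^ m = 1
          rw [conj_pow, (hKm b).mp hb]; group⟩
        have hKbot : K.map P.subtype ≤ ⊥ := hO ▸ Thompson.le_pPrimeCore inferInstance (by
          rw [card_map_of_injective (subtype_injective P), hKcard]
          exact Nat.coprime_two_right.mpr hmodd)
        have hm1 : m = 1 := by
          rw [← hKcard, ← card_map_of_injective (subtype_injective P), le_bot_iff.mp hKbot,
            card_bot]
        refine (eq_of_le_of_card_ge hcP ?_).symm
        rw [hcard, hm1, one_mul, Nat.card_zpowers, hco]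
      refine h.normalizes fun w hw => ?_
      have h2 := h1 (QuotientGroup.mk' _ g) (QuotientGroup.mk' _ w) ⟨w, hw, rfl⟩
      simp only [← map_mul, ← map_inv] at h2
      rw [← mem_comap, hcore] at h2
      rw [show g * t * g⁻¹ * w * (g * t * g⁻¹)⁻¹ =
        g * t * g⁻¹ * w * (g * t * g⁻¹)⁻¹ * w⁻¹ * w by group]
      exact mul_mem ((zpowers_le.mpr hcTmem) h2) (h.le hw)
    push Not at hc
    set K := normalClosure (W : Set G) with hKdef
    set H := K ⊔ zpowers t with hHdef
    have hWK : W ≤ K := subset_normalClosure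
    have hmemH : ∀ x ∈ H, x ∈ K ∨ x * t ∈ K := by
      intro x hx
      rw [hHdef, sup_comm, ← SetLike.mem_coe, mul_normal] at hx
      obtain ⟨b, hb, k, hk, rfl⟩ := Set.mem_mul.mp hx
      obtain ⟨i, rfl⟩ := mem_zpowers_iff.mp hb
      rcases Int.even_or_odd i with ⟨j, rfl⟩ | ⟨j, rfl⟩
      · left
        rw [← two_mul, zpow_mul, zpow_two, h.sq, one_zpow, one_mul]; exact hk
      · right
        rw [zpow_add_one, zpow_mul, zpow_two, h.sq, one_zpow, one_mul]
        have := Normal.conj_mem inferInstance k hk t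
        rwa [Involution.inv_of_orderOf hto] at this
    by_cases hHtop : H = ⊤
    · exact (false_of_generated h hO hc (fun x => hmemH x (hHtop ▸ mem_top x)) IH).elim
    -- `t` centralizes the conjugates of `W`
    have hHK : pPrimeCore 2 H = ⊥ := by
      rw [eq_bot_iff]
      intro d hd
      have hd2 : ((d : G) * d) ∈ K := by
        rcases hmemH d d.2 with h1 | h1
        · exact mul_mem h1 h1
        · have h2 : (d : G) * d = ((d : G) * t) * (t * ((d : G) * t) * t⁻¹) := by
            rw [Involution.inv_of_orderOf hto]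
            calc (d : G) * d = (d : G) * (t * t) * d * (t * t) := by rw [h.sq]; group
              _ = _ := by group
          rw [h2]
          exact mul_mem h1 (Normal.conj_mem inferInstance _ h1 t)
      have hKH : (pPrimeCore 2 H).map H.subtype ⊓ K = ⊥ := by
        rw [eq_bot_iff]
        intro x hx
        obtain ⟨⟨y, hy, rfl⟩, hxK⟩ := hx
        haveI : ((pPrimeCore 2 H).map H.subtype).subgroupOf K |>.Normal :=
          normal_subgroupOf_of_le_normalizer (le_trans le_sup_left (by
            intro a ha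
            exact le_normalizer_map H.subtype ⟨⟨a, ha⟩, by rw [normalizer_eq_top]; exact mem_top _,
              rfl⟩ : H ≤ normalizer (((pPrimeCore 2 H).map H.subtype : Subgroup G) : Set G)))
        have h1 : ((pPrimeCore 2 H).map H.subtype).subgroupOf K ≤ pPrimeCore 2 K :=
          Thompson.le_pPrimeCore inferInstance (Nat.Coprime.coprime_dvd_left
            ((card_comap_dvd_of_injective _ K.subtype (subtype_injective K)).trans
              (card_map_dvd _ H.subtype)) Thompson.card_pPrimeCore_coprime)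
        have h2 := Thompson.map_pPrimeCore_normal_le (p := 2) K
          ⟨⟨H.subtype y, hxK⟩, h1 (mem_subgroupOf.mpr ⟨y, hy, rfl⟩), rfl⟩
        rwa [hO] at h2
      have h3 : ((d * d : H) : G) ∈ (pPrimeCore 2 H).map H.subtype ⊓ K :=
        ⟨⟨_, mul_mem hd hd, rfl⟩, hd2⟩
      rw [hKH, mem_bot] at h3
      have h4 : d ^ 2 = 1 := by rw [pow_two]; exact Subtype.ext h3
      rw [mem_bot, ← orderOf_eq_one_iff]
      exact Nat.eq_one_of_dvd_coprimes Thompson.card_pPrimeCore_coprime
        (Subgroup.orderOf_dvd_natCard _ hd) (orderOf_dvd_of_pow_eq_one h4)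
    have htH : t ∈ H := mem_sup_right (mem_zpowers t)
    have hWH : W ≤ H := le_trans hWK le_sup_left
    obtain ⟨S, hS⟩ := h.restrict H hWH htH
    have hIH := IH H (ZStar.card_lt_of_ne_top hHtop) S _ _ hS
    have hKconj : ∀ k ∈ K, ∀ w ∈ W, Commute t (k * w * k⁻¹) := by
      intro k hk w hw
      have h1 := hIH ⟨k, mem_sup_left hk⟩⁻¹ ⟨w, hWH hw⟩ (mem_subgroupOf.mpr hw)
      rw [hHK, mem_bot, Subtype.ext_iff] at h1
      simp only [Subgroup.coe_mul, InvMemClass.coe_inv, OneMemClass.coe_one, inv_inv] at h1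
      show t * _ = _ * t
      rw [mul_inv_eq_one, mul_inv_eq_iff_eq_mul] at h1
      calc t * (k * w * k⁻¹) = k * (k⁻¹ * t * k * w) * k⁻¹ := by group
        _ = k * (w * (k⁻¹ * t * k)) * k⁻¹ := by rw [h1]
        _ = k * w * k⁻¹ * t := by group
    have hconj : ∀ a : G, ∀ w ∈ W, Commute t (a * w * a⁻¹) := by
      obtain ⟨R, hR⟩ := ((T.isPGroup'.to_le h.le).of_equiv
        (subgroupOfEquivOfLe hWK).symm).exists_le_sylow
      set P := (R : Subgroup K).map K.subtype with hP
      have hWP : W ≤ P := fun w hw => ⟨⟨w, hWK hw⟩, hR (mem_subgroupOf.mpr hw), rfl⟩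
      obtain ⟨Q, hQ⟩ := (R.isPGroup'.map K.subtype).exists_le_sylow
      obtain ⟨d, hd⟩ := MulAction.exists_smul_eq G Q T
      have hmem : ∀ x ∈ P, d * x * d⁻¹ ∈ T := fun x hx => by
        rw [← hd, mem_conj_iff, show d⁻¹ * (d * x * d⁻¹) * d = x by group]
        exact hQ hx
      have hdN := h.normalizes fun w hw => hmem w (hWP hw)
      intro a w hw
      have ha : a ∈ normalizer (P : Set G) ⊔ K := by
        rw [hP, Sylow.normalizer_sup_eq_top]; exact mem_top a
      rw [sup_comm, ← SetLike.mem_coe, normal_mul] at ha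
      obtain ⟨k, hk, b, hb, rfl⟩ := Set.mem_mul.mp ha
      have hdb : d * b ∈ normalizer (W : Set G) := h.normalizes fun v hv => by
        rw [show d * b * v * (d * b)⁻¹ = d * (b * v * b⁻¹) * d⁻¹ by group]
        exact hmem _ ((mem_normalizer_iff.mp hb v).mp (hWP hv))
      have hbN : b ∈ normalizer (W : Set G) := by
        rw [show b = d⁻¹ * (d * b) by group]; exact mul_mem (inv_mem hdN) hdb
      rw [show k * b * w * (k * b)⁻¹ = k * (b * w * b⁻¹) * k⁻¹ by group]
      exact hKconj k hk _ ((mem_normalizer_iff.mp hbN w).mp hw)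
    have h1 := (hconj g⁻¹ u hu).eq
    rw [inv_inv] at h1
    rw [mul_inv_eq_one, mul_inv_eq_iff_eq_mul]
    calc g * t * g⁻¹ * u = g * (t * (g⁻¹ * u * g)) * g⁻¹ := by group
      _ = g * (g⁻¹ * u * g * t) * g⁻¹ := by rw [h1]
      _ = u * (g * t * g⁻¹) := by group

theorem good (G : Type v) [Group G] [Finite G] : Good G := good_aux _ G rfl

end Cfsg.Agent.H40.WeakClosure
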